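import Mathlib

/-!
# Fixed-point-free automorphisms and Singer type cyclic groups

`T` is a finite abelian `p`-group, `p` odd, `A ≤ Aut(T)` a group of order prime to `p` and `r`, normalised by an automorphism
`α` with `α ^ r = 1` (`r` prime) without fixed points. Then `A` has no nontrivial cyclic subgroup `X` that permutes transitively the
non-identity elements of `[T, X]`.
-/

set_option autoImplicit false

namespace Cfsg.Agent.H788.Elim

open Subgroup

variable {T : Type*} [CommGroup T]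

/-- `t ↦ h t / t`. -/
def cm (h : MulAut T) : T →* T where
  toFun t := h t * t⁻¹
  map_one' := by simp
  map_mul' a b := by rw [map_mul, mul_inv]; exact mul_mul_mul_comm _ _ _ _

theorem cm_apply (h : MulAut T) (t : T) : cm h t = h t * t⁻¹ := rfl

theorem apply_eq (h : MulAut T) (t : T) : h t = cm h t * t := by rw [cm_apply]; group

theorem cm_eq_one {h : MulAut T} {t : T} : cm h t = 1 ↔ h t = t := by
  rw [cm_apply, mul_inv_eq_one]

/-- Conjugation. -/
theorem cm_conj (α h : MulAut T) (t : T) : cm (α * h * α⁻¹) (α t) = α (cm h t) := by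
  simp [cm_apply, MulAut.mul_apply]

/-- **Symmetry of the commuting relation**: if `a` fixes `[T, b]` pointwise then `b` fixes `[T, a]` pointwise. -/
theorem cm_symm [Finite T] {p : ℕ} [Fact p.Prime] (hT : IsPGroup p T) (A : Subgroup (MulAut T))
    (hA : (Nat.card A).Coprime p) {a b : MulAut T} (ha : a ∈ A) (hb : b ∈ A)
    (h : ∀ t, a (cm b t) = cm b t) (t : T) : b (cm a t) = cm a t := by
  -- `m t = (a b)⁻¹ (cm b (cm a t))`
  set c : MulAut T := (a * b)⁻¹ * (b * a) with hc
  have hcA : c ∈ A := A.mul_mem (A.inv_mem (A.mul_mem ha hb)) (A.mul_mem hb ha)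
  set m : T →* T := ((a * b)⁻¹ : MulAut T).toMonoidHom.comp ((cm b).comp (cm a)) with hm
  have h1 : ∀ t, b (a t) = cm b (cm a t) * a (b t) := by
    intro t
    have e1 : b (a t) = cm b (cm a t) * cm a t * (cm b t * t) := by
      rw [apply_eq a t, map_mul, apply_eq b (cm a t), apply_eq b t]
    have e2 : a (b t) = cm b t * (cm a t * t) := by
      rw [apply_eq b t, map_mul, h, apply_eq a t]
    rw [e1, e2]
    simp only [mul_assoc, mul_left_comm]
  have hct : ∀ t, c t = m t * t := by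
    intro t
    have e : (b * a) t = cm b (cm a t) * (a * b) t := h1 t
    rw [hc, MulAut.mul_apply, e, map_mul, MulAut.inv_apply_self]
    rfl
  have hab : ∀ t, ∃ s, ((a * b)⁻¹ : MulAut T) (cm b t) = cm b s := by
    intro t
    refine ⟨b⁻¹ t, ?_⟩
    have e : (a * b) (cm b (b⁻¹ t)) = cm b t := by
      rw [MulAut.mul_apply]
      have : b (cm b (b⁻¹ t)) = cm b t := by simp [cm_apply]
      rw [this, h]
    rw [← e, MulAut.inv_apply_self]
  have hmm : ∀ t, m (m t) = 1 := by
    intro t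
    obtain ⟨s, hs⟩ := hab (cm a t)
    have e : m t = cm b s := hs
    have e2 : cm a (cm b s) = 1 := cm_eq_one.2 (h s)
    rw [e]
    change ((a * b)⁻¹ : MulAut T) (cm b (cm a (cm b s))) = 1
    rw [e2, map_one, map_one]
  have hcm : ∀ t, c (m t) = m t := by
    intro t; rw [hct, hmm, one_mul]
  have hpow : ∀ (n : ℕ) (t : T), (c ^ n) t = (m t) ^ n * t := by
    intro n t
    induction n with
    | zero => simp
    | succ n ih =>
      rw [pow_succ', MulAut.mul_apply, ih, map_mul, map_pow, hcm, hct, ← mul_assoc, ← pow_succ]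
  have hone : m t = 1 := by
    have e := hpow (Nat.card A) t
    have : c ^ Nat.card A = 1 := by
      have := pow_card_eq_one' (x := (⟨c, hcA⟩ : A))
      exact congrArg Subtype.val this
    rw [this, MulAut.one_apply] at e
    have e' : (m t) ^ Nat.card A = 1 := by
      have := e.symm
      rwa [mul_eq_right] at this
    obtain ⟨k, hk⟩ := hT (m t)
    have hd : orderOf (m t) ∣ Nat.gcd (Nat.card A) (p ^ k) :=
      Nat.dvd_gcd (orderOf_dvd_of_pow_eq_one e') (orderOf_dvd_of_pow_eq_one hk)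
    rw [Nat.Coprime.gcd_eq_one (Nat.Coprime.pow_right k hA), Nat.dvd_one, orderOf_eq_one_iff] at hd
    exact hd
  have h2 : cm b (cm a t) = 1 := by
    have : ((a * b)⁻¹ : MulAut T) (cm b (cm a t)) = ((a * b)⁻¹ : MulAut T) 1 := by
      rw [map_one]; exact hone
    exact (MulEquiv.injective _) this
  exact cm_eq_one.1 h2

/-- The setting. -/
structure Ctx (p r : ℕ) (A : Subgroup (MulAut T)) (α : MulAut T) : Prop where
  hp : p.Prime
  hp2 : p ≠ 2
  hr : r.Prime
  hT : IsPGroup p T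
  hAp : (Nat.card A).Coprime p
  hAr : ¬ r ∣ Nat.card A
  hαr : α ^ r = 1
  hαA : ∀ a ∈ A, α * a * α⁻¹ ∈ A
  hfix : ∀ x, α x = x → x = 1

variable {p r : ℕ} {A : Subgroup (MulAut T)} {α : MulAut T}

theorem Ctx.pow_mem (H : Ctx p r A α) (i : ℕ) {a : MulAut T} (ha : a ∈ A) : α ^ i * a * (α ^ i)⁻¹ ∈ A := by
  induction i with
  | zero => simpa
  | succ i ih =>
    have := H.hαA _ ih
    rwa [show α * (α ^ i * a * (α ^ i)⁻¹) * α⁻¹ = α ^ (i + 1) * a * (α ^ (i + 1))⁻¹ by
      rw [pow_succ' α i]; group] at this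

theorem Ctx.fix_pow (H : Ctx p r A α) {i : ℕ} (hi : ¬ r ∣ i) {x : T} (hx : (α ^ i) x = x) : x = 1 := by
  apply H.hfix
  have hco : i.Coprime r := ((Nat.Prime.coprime_iff_not_dvd H.hr).2 hi).symm
  -- powers of `α ^ i`
  have hall : ∀ n : ℕ, ((α ^ i) ^ n) x = x := by
    intro n
    induction n with
    | zero => simp
    | succ n ih => rw [pow_succ', MulAut.mul_apply, ih, hx]
  obtain ⟨n, hn⟩ := Nat.exists_mul_mod_eq_one_of_coprime hco H.hr.one_lt
  have : (α ^ i) ^ n = α := by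
    rw [← pow_mul]
    conv_lhs => rw [← Nat.div_add_mod (i * n) r, hn.2, pow_add, pow_mul, H.hαr, one_pow, one_mul, pow_one]
  rw [← this]
  exact hall n

/-- `α ^ i` moves each nontrivial element out of its `A`-orbit. -/
theorem Ctx.not_conj [Finite T] (H : Ctx p r A α) {i : ℕ} (hi : ¬ r ∣ i) {x : T} (hx : x ≠ 1) {a : MulAut T}
    (ha : a ∈ A) : a ((α ^ i) x) ≠ x := by
  classical
  intro h
  have : Fact r.Prime := ⟨H.hr⟩
  set O : Set T := {y | ∃ b ∈ A, b x = y} with hO
  have hmap : ∀ y ∈ O, (α ^ i) y ∈ O := by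
    rintro y ⟨b, hb, rfl⟩
    refine ⟨(α ^ i * b * (α ^ i)⁻¹) * a⁻¹, A.mul_mem (H.pow_mem i hb) (A.inv_mem ha), ?_⟩
    have e : a⁻¹ x = (α ^ i) x := by
      conv_lhs => rw [← h]
      rw [MulAut.inv_apply_self]
    rw [MulAut.mul_apply, e, MulAut.mul_apply, MulAut.inv_apply_self, MulAut.mul_apply]
  have hfinO : Finite O := inferInstance
  let f : O → O := fun y => ⟨(α ^ i) y, hmap y y.2⟩
  have hf : Function.Injective f := by
    intro y z hyz
    exact Subtype.ext ((α ^ i).injective (congrArg Subtype.val hyz))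
  let σ : Equiv.Perm O := Equiv.ofBijective f (Finite.injective_iff_bijective.1 hf)
  let _ : Fintype O := Fintype.ofFinite O
  have hσ : σ ^ r ^ 1 = 1 := by
    rw [pow_one]
    have key : ∀ (n : ℕ) (y : O), (((σ ^ n) y : O) : T) = ((α ^ i) ^ n) (y : T) := by
      intro n y
      induction n with
      | zero => simp
      | succ n ih =>
        rw [pow_succ', Equiv.Perm.mul_apply, pow_succ', MulAut.mul_apply, ← ih]
        rfl
    ext y
    rw [key, ← pow_mul, mul_comm, pow_mul, H.hαr, one_pow]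
    rfl
  have hcard : ¬ r ∣ Fintype.card O := by
    intro hd
    apply H.hAr
    refine hd.trans ?_
    rw [← Nat.card_eq_fintype_card]
    have e : O = MulAction.orbit A x := by
      ext y
      constructor
      · rintro ⟨b, hb, rfl⟩; exact ⟨⟨b, hb⟩, rfl⟩
      · rintro ⟨b, rfl⟩; exact ⟨b, b.2, rfl⟩
    rw [e]
    have h2 : Nat.card (MulAction.orbit A x) = (MulAction.stabilizer A x).index :=
      (MulAction.index_stabilizer A x).symm
    rw [h2]
    exact Subgroup.index_dvd_card _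
  obtain ⟨⟨y, b, hb, hby⟩, hy⟩ := Equiv.Perm.exists_fixed_point_of_prime hcard hσ
  have hy' : (α ^ i) y = y := congrArg Subtype.val hy
  have hy1 := H.fix_pow hi hy'
  rw [hy1] at hby
  apply hx
  exact b.injective (by rw [hby, map_one])

/-- Singer type automorphism: its powers are transitive on the non-identity elements of `[T, h]`, which it moves. -/
structure Sing (h : MulAut T) : Prop where
  fpf : ∀ t, h (cm h t) = cm h t → cm h t = 1
  tr : ∀ a b : T, cm h a ≠ 1 → cm h b ≠ 1 → ∃ k : ℕ, (h ^ k) (cm h a) = cm h b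

theorem Sing.conj {h : MulAut T} (hh : Sing h) (β : MulAut T) : Sing (β * h * β⁻¹) := by
  have hpow : ∀ (k : ℕ), (β * h * β⁻¹) ^ k = β * h ^ k * β⁻¹ := fun k => by
    rw [conj_pow]
  have hcm : ∀ t, cm (β * h * β⁻¹) t = β (cm h (β⁻¹ t)) := by
    intro t
    have := cm_conj β h (β⁻¹ t)
    rwa [MulAut.apply_inv_self] at this
  constructor
  · intro t ht
    rw [hcm] at ht ⊢
    rw [MulAut.mul_apply, MulAut.mul_apply, MulAut.inv_apply_self] at ht
    rw [hh.fpf _ (β.injective ht), map_one]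
  · intro a b ha hb
    rw [hcm] at ha hb ⊢
    rw [hcm]
    obtain ⟨k, hk⟩ := hh.tr (β⁻¹ a) (β⁻¹ b) (fun e => ha (by rw [e, map_one])) (fun e => hb (by rw [e, map_one]))
    exact ⟨k, by rw [hpow, MulAut.mul_apply, MulAut.mul_apply, MulAut.inv_apply_self, hk]⟩

/-- Decomposition `T = C_T(h) [T, h]`. -/
theorem Sing.decomp [Finite T] {h : MulAut T} (hh : Sing h) (t : T) :
    ∃ c y : T, h c = c ∧ t = c * cm h y := by
  -- the restriction of `cm h` to its range is injective, hence surjective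
  let f : (cm h).range → (cm h).range := fun y => ⟨cm h y, ⟨y, rfl⟩⟩
  have hf : Function.Injective f := by
    rintro ⟨_, ⟨a, rfl⟩⟩ ⟨_, ⟨b, rfl⟩⟩ hab
    have e : cm h (cm h a) = cm h (cm h b) := congrArg Subtype.val hab
    have e2 : cm h (cm h (a * b⁻¹)) = 1 := by
      rw [map_mul, map_mul, map_inv, map_inv, e, mul_inv_cancel]
    have e3 := hh.fpf _ (cm_eq_one.1 e2)
    rw [map_mul, map_inv, mul_inv_eq_one] at e3
    exact Subtype.ext e3
  obtain ⟨⟨_, ⟨y, rfl⟩⟩, hy⟩ := (Finite.injective_iff_surjective.1 hf) ⟨cm h t, ⟨t, rfl⟩⟩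
  have hy' : cm h (cm h y) = cm h t := congrArg Subtype.val hy
  refine ⟨t * (cm h y)⁻¹, y, ?_, by group⟩
  rw [← cm_eq_one, map_mul, map_inv, hy', mul_inv_cancel]

/-- If `v` is not fixed and `v y` is not fixed by `h`, `y ∈ [T, h]`, then a power of `h` takes `v` to `v y`. -/
theorem Sing.move [Finite T] {h : MulAut T} (hh : Sing h) {v w : T} (hv : h v ≠ v)
    (hw : h (v * cm h w) ≠ v * cm h w) : ∃ k : ℕ, (h ^ k) v = v * cm h w := by
  obtain ⟨c, y, hc, rfl⟩ := hh.decomp v
  have h1 : cm h y ≠ 1 := by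
    intro e; apply hv; rw [e, mul_one, hc]
  have h2 : cm h (y * w) ≠ 1 := by
    intro e; apply hw
    rw [mul_assoc, ← map_mul, e, mul_one, hc]
  obtain ⟨k, hk⟩ := hh.tr y (y * w) h1 h2
  refine ⟨k, ?_⟩
  have hck : (h ^ k) c = c := by
    clear hk
    induction k with
    | zero => simp
    | succ n ih => rw [pow_succ', MulAut.mul_apply, ih, hc]
  rw [map_mul, hck, hk, map_mul, mul_assoc]

/-- **The pair lemma**, `|[T, h]| > 3`. -/
theorem pair [Finite T] (H : Ctx p r A α) {h h' : MulAut T} (hh : Sing h) (hh' : Sing h') (hA : h ∈ A) (hA' : h' ∈ A)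
    (hcard : 3 < Nat.card (cm h').range)
    (hne : ∀ a ∈ A, ∀ t t' : T, cm h t ≠ 1 → a (cm h t) ≠ cm h' t')
    (h1 : ∃ t, h' (cm h t) ≠ cm h t) (h2 : ∃ t, h (cm h' t) ≠ cm h' t) : False := by
  classical
  have : Fact p.Prime := ⟨H.hp⟩
  obtain ⟨s, hs⟩ := h1
  -- the fixed points of `h` in `[T, h']`
  set Y : Subgroup T := (cm h').range with hY
  set I : Subgroup T := Y ⊓ (cm h).ker with hI
  have hIY : I ≤ Y := inf_le_left
  have hIne : I ≠ Y := by
    obtain ⟨t, ht⟩ := h2
    intro e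
    have : cm h' t ∈ I := by rw [e]; exact ⟨t, rfl⟩
    exact ht (cm_eq_one.1 this.2)
  have h3I : 3 * Nat.card I ≤ Nat.card Y := by
    obtain ⟨k, hk⟩ := Subgroup.card_dvd_of_le hIY
    have hk1 : k ≠ 1 := by
      rintro rfl
      rw [mul_one] at hk
      exact hIne (Subgroup.eq_of_le_of_card_ge hIY hk.le)
    have hk0 : k ≠ 0 := by
      rintro rfl
      rw [mul_zero] at hk
      exact Nat.card_pos.ne' hk
    have hodd : Odd (Nat.card Y) := by
      obtain ⟨n, hn⟩ := IsPGroup.iff_card.1 (H.hT.to_subgroup Y)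
      rw [hn]
      exact (H.hp.odd_of_ne_two H.hp2).pow
    have hk2 : k ≠ 2 := by
      rintro rfl
      rw [hk] at hodd
      exact (Nat.not_odd_iff_even.2 (even_iff_two_dvd.2 (Dvd.intro_left _ rfl))) hodd
    have : 3 ≤ k := by omega
    rw [hk, mul_comm]
    exact Nat.mul_le_mul_left _ this
  -- the bad sets
  set B1 : Set T := (I : Set T)
  set B2 : Set T := {t | t ∈ Y ∧ h (cm h s * t) = cm h s * t}
  set B3 : Set T := {t | t ∈ Y ∧ h' (cm h s * t) = cm h s * t}
  have hB2 : B2.ncard ≤ Nat.card I := by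
    rcases B2.eq_empty_or_nonempty with he | ⟨t₁, ht₁⟩
    · rw [he, Set.ncard_empty]; exact Nat.zero_le _
    · have : B2 ⊆ (fun x => t₁ * x) '' (I : Set T) := by
        intro t ht
        refine ⟨t₁⁻¹ * t, ⟨Y.mul_mem (Y.inv_mem ht₁.1) ht.1, ?_⟩, by simp⟩
        have e1 : cm h (cm h s * t₁) = 1 := cm_eq_one.2 ht₁.2
        have e2 : cm h (cm h s * t) = 1 := cm_eq_one.2 ht.2
        rw [map_mul] at e1 e2
        change cm h (t₁⁻¹ * t) = 1
        rw [map_mul, map_inv]
        have : cm h t₁ = cm h t := mul_left_cancel (e1.trans e2.symm)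
        rw [this, inv_mul_cancel]
      calc B2.ncard ≤ ((fun x => t₁ * x) '' (I : Set T)).ncard := Set.ncard_le_ncard this (Set.toFinite _)
        _ ≤ (I : Set T).ncard := Set.ncard_image_le (Set.toFinite _)
        _ = Nat.card I := rfl
  have hB3 : B3.ncard ≤ 1 := by
    rw [Set.ncard_le_one (Set.toFinite _)]
    rintro t ⟨⟨a, rfl⟩, ht⟩ t' ⟨⟨b, rfl⟩, ht'⟩
    have e1 : cm h' (cm h s * cm h' a) = 1 := cm_eq_one.2 ht
    have e2 : cm h' (cm h s * cm h' b) = 1 := cm_eq_one.2 ht'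
    rw [map_mul] at e1 e2
    have e3 : cm h' (cm h' a) = cm h' (cm h' b) := mul_left_cancel (e1.trans e2.symm)
    have e4 : cm h' (cm h' (a * b⁻¹)) = 1 := by
      rw [map_mul, map_mul, map_inv, map_inv, e3, mul_inv_cancel]
    have e5 := hh'.fpf _ (cm_eq_one.1 e4)
    rwa [map_mul, map_inv, mul_inv_eq_one] at e5
  have hlt : (B1 ∪ B2 ∪ B3).ncard < Nat.card Y := by
    have e1 : B1.ncard = Nat.card I := rfl
    have e2 := Set.ncard_union_le (B1 ∪ B2) B3
    have e3 := Set.ncard_union_le B1 B2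
    omega
  obtain ⟨t, htY, ht⟩ : ∃ t ∈ Y, t ∉ B1 ∪ B2 ∪ B3 := by
    by_contra hcon
    push Not at hcon
    have : (Y : Set T) ⊆ B1 ∪ B2 ∪ B3 := hcon
    have e := Set.ncard_le_ncard this (Set.toFinite _)
    have e' : (Y : Set T).ncard = Nat.card Y := rfl
    omega
  have ht1 : h t ≠ t := fun e => ht (Or.inl (Or.inl ⟨htY, cm_eq_one.2 e⟩))
  have ht2 : h (cm h s * t) ≠ cm h s * t := fun e => ht (Or.inl (Or.inr ⟨htY, e⟩))
  have ht3 : h' (cm h s * t) ≠ cm h s * t := fun e => ht (Or.inr ⟨htY, e⟩)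
  obtain ⟨t', rfl⟩ := htY
  -- `t ~ s t` under `h`
  obtain ⟨k, hk⟩ := hh.move (v := cm h' t') (w := s) ht1 (by rwa [mul_comm (cm h' t')])
  -- `s ~ s t` under `h'`
  obtain ⟨l, hl⟩ := hh'.move (v := cm h s) (w := t') hs ht3
  have hs1 : cm h s ≠ 1 := by
    intro e; exact hs (by rw [e, map_one])
  refine hne ((h ^ k)⁻¹ * h' ^ l) (A.mul_mem (A.inv_mem (A.pow_mem hA k)) (A.pow_mem hA' l)) s t' hs1 ?_
  rw [MulAut.mul_apply, hl, mul_comm (cm h s), ← hk, MulAut.inv_apply_self]

/-- No `A`-conjugation between `[T, h]` and its `α ^ k`-conjugate. -/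
theorem Ctx.ne_conj [Finite T] (H : Ctx p r A α) {h : MulAut T} (hA : h ∈ A) (hh : Sing h) {k : ℕ} (hk : ¬ r ∣ k)
    {a : MulAut T} (ha : a ∈ A) {t t' : T} (ht : cm h t ≠ 1) :
    a (cm h t) ≠ cm (α ^ k * h * (α ^ k)⁻¹) t' := by
  intro e
  obtain ⟨s, rfl⟩ : ∃ s, t' = (α ^ k) s := ⟨(α ^ k)⁻¹ t', (MulAut.apply_inv_self _ _ _).symm⟩
  rw [cm_conj] at e
  have hs : cm h s ≠ 1 := by
    intro e1
    rw [e1, map_one] at e
    exact ht (a.injective (by rw [e, map_one]))
  obtain ⟨m, hm⟩ := hh.tr t s ht hs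
  refine H.not_conj hk ht (a := a⁻¹ * (α ^ k * h ^ m * (α ^ k)⁻¹))
    (A.mul_mem (A.inv_mem ha) (H.pow_mem k (A.pow_mem hA m))) ?_
  rw [MulAut.mul_apply, MulAut.mul_apply, MulAut.inv_apply_self, MulAut.mul_apply, hm, ← e, MulAut.inv_apply_self]

theorem card_range_conj [Finite T] (β h : MulAut T) :
    Nat.card (cm (β * h * β⁻¹)).range = Nat.card (cm h).range := by
  have : (cm (β * h * β⁻¹)).range = (cm h).range.map β.toMonoidHom := by
    ext y
    constructor
    · rintro ⟨t, rfl⟩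
      obtain ⟨s, rfl⟩ : ∃ s, t = β s := ⟨β⁻¹ t, (MulAut.apply_inv_self _ _ _).symm⟩
      exact ⟨cm h s, ⟨s, rfl⟩, (cm_conj _ _ _).symm⟩
    · rintro ⟨_, ⟨t, rfl⟩, rfl⟩
      exact ⟨β t, cm_conj _ _ _⟩
  rw [this]
  exact (Nat.card_congr (Subgroup.equivMapOfInjective _ β.toMonoidHom β.injective).toEquiv).symm

theorem cm_mem (h : MulAut T) (t : T) : cm h t ∈ (cm h).range := ⟨t, rfl⟩

/-- If one of `h`, `h'` fixes the commutator group of the other, both commutators vanish. -/
theorem Ctx.both [Finite T] (H : Ctx p r A α) {h h' : MulAut T} (hA : h ∈ A) (hA' : h' ∈ A)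
    (hor : (∀ t, h' (cm h t) = cm h t) ∨ (∀ t, h (cm h' t) = cm h' t)) :
    (∀ t, h' (cm h t) = cm h t) ∧ (∀ t, h (cm h' t) = cm h' t) := by
  have : Fact p.Prime := ⟨H.hp⟩
  rcases hor with h1 | h1
  · exact ⟨h1, fun t => cm_symm H.hT A H.hAp hA' hA h1 t⟩
  · exact ⟨fun t => cm_symm H.hT A H.hAp hA hA' h1 t, h1⟩

/-- Antisymmetry. -/
theorem Ctx.antisymm [Finite T] (H : Ctx p r A α) {h : MulAut T} (hA : h ∈ A) (hh : Sing h) {x : T}
    (hx : x ∈ (cm h).range) (hx1 : x ≠ 1) {k l : ℕ} (hk : ¬ r ∣ k) (hkl : k + l = r) :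
    cm h ((α ^ k) x) * cm h ((α ^ l) x) = 1 := by
  classical
  set h' : MulAut T := α ^ k * h * (α ^ k)⁻¹ with hh'
  have hA' : h' ∈ A := H.pow_mem k hA
  have hS' : Sing h' := hh.conj _
  have hcard : Nat.card (cm h').range = Nat.card (cm h).range := card_range_conj _ _
  obtain ⟨t₀, rfl⟩ := hx
  -- `cm h' (cm h t₀) = α ^ k (cm h (α ^ l x))`
  have hinv : ((α ^ k)⁻¹ : MulAut T) = α ^ l := by
    rw [inv_eq_iff_mul_eq_one, ← pow_add, hkl, H.hαr]
  have he : cm h' (cm h t₀) = (α ^ k) (cm h ((α ^ l) (cm h t₀))) := by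
    have := cm_conj (α ^ k) h ((α ^ k)⁻¹ (cm h t₀))
    rw [MulAut.apply_inv_self] at this
    rw [this, hinv]
  -- if the commutators vanish
  have hfin : ((∀ t, h' (cm h t) = cm h t) ∨ (∀ t, h (cm h' t) = cm h' t)) →
      cm h ((α ^ k) (cm h t₀)) * cm h ((α ^ l) (cm h t₀)) = 1 := by
    intro hor
    obtain ⟨h1, h2⟩ := H.both hA hA' hor
    have e1 : cm h ((α ^ k) (cm h t₀)) = 1 := by
      rw [cm_eq_one, ← cm_conj]
      exact h2 _
    have e2 : cm h ((α ^ l) (cm h t₀)) = 1 := by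
      have : cm h' (cm h t₀) = 1 := cm_eq_one.2 (h1 t₀)
      rw [he] at this
      exact (α ^ k).injective (by rw [this, map_one])
    rw [e1, e2, one_mul]
  by_cases hq : 3 < Nat.card (cm h).range
  · apply hfin
    by_contra hcon
    push Not at hcon
    exact pair H hh hS' hA hA' (by rw [hcard]; exact hq) (fun a ha t t' ht => H.ne_conj hA hh hk ha ht) hcon.1 hcon.2
  · -- `|[T, h]| = 3`
    have hq3 : Nat.card (cm h).range = 3 := by
      have h1 : Nat.card (cm h).range ≠ 1 := by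
        intro e
        rw [Subgroup.card_eq_one] at e
        have := cm_mem h t₀
        rw [e, Subgroup.mem_bot] at this
        exact hx1 this
      have h0 : 0 < Nat.card (cm h).range := Nat.card_pos
      have hodd : Odd (Nat.card (cm h).range) := by
        have : Fact p.Prime := ⟨H.hp⟩
        obtain ⟨n, hn⟩ := IsPGroup.iff_card.1 (H.hT.to_subgroup (cm h).range)
        rw [hn]
        exact (H.hp.odd_of_ne_two H.hp2).pow
      have h2 : Nat.card (cm h).range ≠ 2 := by
        intro e; rw [e] at hodd; exact absurd hodd (by decide)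
      omega
    have h3p : Fact (Nat.Prime 3) := ⟨Nat.prime_three⟩
    have hcube : ∀ y ∈ (cm h).range, y ^ 3 = 1 := by
      intro y hy
      have := pow_card_eq_one' (x := (⟨y, hy⟩ : (cm h).range))
      rw [hq3] at this
      exact congrArg Subtype.val this
    have hx3 := hcube _ (cm_mem h t₀)
    have hall : ∀ y ∈ (cm h).range, y = 1 ∨ y = cm h t₀ ∨ y = (cm h t₀)⁻¹ := by
      intro y hy
      have hm : (⟨y, hy⟩ : (cm h).range) ∈ Subgroup.zpowers (⟨cm h t₀, cm_mem h t₀⟩ : (cm h).range) :=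
        mem_zpowers_of_prime_card hq3 (fun e => hx1 (congrArg Subtype.val e))
      rw [mem_zpowers_iff_mem_range_orderOf] at hm
      obtain ⟨n, hn, hny⟩ := Finset.mem_image.1 hm
      have ho : orderOf (⟨cm h t₀, cm_mem h t₀⟩ : (cm h).range) ≤ 3 := by
        apply orderOf_le_of_pow_eq_one (by norm_num)
        exact Subtype.ext hx3
      have hn3 : n < 3 := lt_of_lt_of_le (Finset.mem_range.1 hn) ho
      have hy' : (cm h t₀) ^ n = y := congrArg Subtype.val hny
      interval_cases n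
      · left; rw [← hy', pow_zero]
      · right; left; rw [← hy', pow_one]
      · right; right
        rw [← hy', eq_inv_iff_mul_eq_one, ← pow_succ, hx3]
    -- the three cases for each factor
    set b : T := (α ^ k) (cm h t₀) with hb
    have hbY : b = cm h' ((α ^ k) t₀) := by rw [hh', cm_conj]
    have hall' : ∀ t, cm h' t = 1 ∨ cm h' t = b ∨ cm h' t = b⁻¹ := by
      intro t
      obtain ⟨s, rfl⟩ : ∃ s, t = (α ^ k) s := ⟨(α ^ k)⁻¹ t, (MulAut.apply_inv_self _ _ _).symm⟩
      rw [hh', cm_conj]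
      rcases hall _ (cm_mem h s) with e | e | e
      · left; rw [e, map_one]
      · right; left; rw [e]
      · right; right; rw [e, map_inv]
    rcases hall _ (cm_mem h b) with e | e | e
    · apply hfin
      right
      intro t
      have hb1 : h b = b := cm_eq_one.1 e
      rcases hall' t with e1 | e1 | e1
      · rw [e1, map_one]
      · rw [e1, hb1]
      · rw [e1, map_inv, hb1]
    · rcases hall _ (cm_mem h ((α ^ l) (cm h t₀))) with e' | e' | e'
      · apply hfin
        left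
        intro t
        rw [e', map_one] at he
        have hx' : h' (cm h t₀) = cm h t₀ := cm_eq_one.1 he
        rcases hall _ (cm_mem h t) with e1 | e1 | e1
        · rw [e1, map_one]
        · rw [e1, hx']
        · rw [e1, map_inv, hx']
      · exfalso
        rw [e', ← hb] at he
        have e1 : h b = cm h t₀ * b := by rw [apply_eq h b, e]
        have e2 : h' (cm h t₀) = b * cm h t₀ := by rw [apply_eq h' (cm h t₀), he]
        refine H.ne_conj hA hh hk (a := h⁻¹ * h') (A.mul_mem (A.inv_mem hA) hA') (t' := (α ^ k) t₀) hx1 ?_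
        rw [← hh', ← hbY, MulAut.mul_apply, e2, mul_comm, ← e1, MulAut.inv_apply_self]
      · rw [e, e', mul_inv_cancel]
    · rcases hall _ (cm_mem h ((α ^ l) (cm h t₀))) with e' | e' | e'
      · apply hfin
        left
        intro t
        rw [e', map_one] at he
        have hx' : h' (cm h t₀) = cm h t₀ := cm_eq_one.1 he
        rcases hall _ (cm_mem h t) with e1 | e1 | e1
        · rw [e1, map_one]
        · rw [e1, hx']
        · rw [e1, map_inv, hx']
      · rw [e, e', inv_mul_cancel]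
      · exfalso
        rw [e', map_inv, ← hb] at he
        have e1 : h b = (cm h t₀)⁻¹ * b := by rw [apply_eq h b, e]
        have e2 : h' (cm h t₀) = b⁻¹ * cm h t₀ := by rw [apply_eq h' (cm h t₀), he]
        refine H.ne_conj hA hh hk (a := h⁻¹ * h') (A.mul_mem (A.inv_mem hA) hA') (t' := ((α ^ k) t₀)⁻¹) hx1 ?_
        rw [← hh', map_inv, ← hbY, MulAut.mul_apply, e2]
        have e3 : b⁻¹ * cm h t₀ = h (b⁻¹) := by
          rw [map_inv, e1, mul_inv, inv_inv, mul_comm]
        rw [e3, MulAut.inv_apply_self]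

/-- **Elimination of Singer type automorphisms.** -/
theorem Ctx.no_sing [Finite T] (H : Ctx p r A α) {h : MulAut T} (hA : h ∈ A) (hh : Sing h) (t : T) : cm h t = 1 := by
  classical
  by_contra ht
  set x : T := cm h t with hx
  -- the norm is trivial
  have hnorm : ∏ i ∈ Finset.range r, (α ^ i) x = 1 := by
    apply H.hfix
    rw [map_prod]
    have e1 : ∀ i, α ((α ^ i) x) = (α ^ (i + 1)) x := fun i => by rw [pow_succ', MulAut.mul_apply]
    simp only [e1]
    have e2 := Finset.prod_range_succ (fun i => (α ^ i) x) r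
    have e3 := Finset.prod_range_succ' (fun i => (α ^ i) x) r
    rw [e3] at e2
    simp only [pow_zero, H.hαr] at e2
    exact mul_right_cancel e2
  have hprod : ∏ i ∈ Finset.range r, cm h ((α ^ i) x) = 1 := by
    rw [← map_prod, hnorm, map_one]
  obtain ⟨m, hm⟩ : ∃ m, r = m + 1 := ⟨r - 1, by have := H.hr.pos; omega⟩
  rw [hm, Finset.prod_range_succ'] at hprod
  set D : T := ∏ i ∈ Finset.range m, cm h ((α ^ (i + 1)) x) with hD
  have hDD : D * D = 1 := by
    have e1 : D = ∏ i ∈ Finset.range m, cm h ((α ^ (m - 1 - i + 1)) x) := by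
      rw [hD]
      exact (Finset.prod_range_reflect (fun i => cm h ((α ^ (i + 1)) x)) m).symm
    conv_lhs => rw [hD]; arg 2; rw [← hD, e1]
    rw [← Finset.prod_mul_distrib]
    apply Finset.prod_eq_one
    intro i hi
    have hi' := Finset.mem_range.1 hi
    apply H.antisymm hA hh ⟨t, rfl⟩ ht
    · intro hd
      have := Nat.le_of_dvd (by omega) hd
      omega
    · omega
  have hD1 : D = 1 := by
    obtain ⟨k, hk⟩ := H.hT D
    have h2 : orderOf D ∣ 2 := orderOf_dvd_of_pow_eq_one (by rw [pow_two, hDD])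
    have h3 : orderOf D ∣ Nat.gcd 2 (p ^ k) := Nat.dvd_gcd h2 (orderOf_dvd_of_pow_eq_one hk)
    have h4 : Nat.Coprime 2 (p ^ k) :=
      Nat.Coprime.pow_right k ((Nat.coprime_primes Nat.prime_two H.hp).2 (Ne.symm H.hp2))
    rw [h4.gcd_eq_one, Nat.dvd_one, orderOf_eq_one_iff] at h3
    exact h3
  rw [hD1, one_mul, pow_zero, MulAut.one_apply] at hprod
  exact ht (hh.fpf t (cm_eq_one.1 hprod))

/-- **The form of the conclusion of S5278.** -/
theorem Ctx.elim [Finite T] (H : Ctx p r A α) {X : Subgroup (MulAut T)} (hXA : X ≤ A) (hX : IsCyclic X)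
    (htr : ∀ a b : T, a ∈ Subgroup.closure {y : T | ∃ ψ ∈ X, ∃ t : T, y = ψ t * t⁻¹} →
      b ∈ Subgroup.closure {y : T | ∃ ψ ∈ X, ∃ t : T, y = ψ t * t⁻¹} → a ≠ 1 → b ≠ 1 → ∃ ψ ∈ X, ψ a = b) :
    X = ⊥ := by
  obtain ⟨⟨h, hhX⟩, hgen⟩ := hX
  have hpow : ∀ ψ ∈ X, ∃ k : ℕ, h ^ k = ψ := by
    intro ψ hψ
    have h1 := hgen ⟨ψ, hψ⟩
    have h2 : ψ ∈ Subgroup.zpowers h := by
      obtain ⟨k, hk⟩ := Subgroup.mem_zpowers_iff.1 h1
      exact Subgroup.mem_zpowers_iff.2 ⟨k, congrArg Subtype.val hk⟩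
    have h3 := mem_powers_iff_mem_zpowers.2 h2
    obtain ⟨k, hk⟩ := h3
    exact ⟨k, hk⟩
  have hmem : ∀ t, cm h t ∈ Subgroup.closure {y : T | ∃ ψ ∈ X, ∃ t : T, y = ψ t * t⁻¹} := fun t =>
    Subgroup.subset_closure ⟨h, hhX, t, rfl⟩
  have hSing : Sing h := by
    constructor
    · intro t ht
      by_contra h1
      -- then `[T, h]` has only one non-identity element
      have hfixk : ∀ k : ℕ, (h ^ k) (cm h t) = cm h t := by
        intro k
        induction k with
        | zero => simp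
        | succ n ih => rw [pow_succ', MulAut.mul_apply, ih, ht]
      have hinv : (cm h t)⁻¹ ≠ 1 := inv_ne_one.2 h1
      obtain ⟨ψ, hψ, he⟩ := htr (cm h t) (cm h t)⁻¹ (hmem t) ((Subgroup.closure _).inv_mem (hmem t)) h1 hinv
      obtain ⟨k, rfl⟩ := hpow ψ hψ
      rw [hfixk] at he
      have h2 : cm h t * cm h t = 1 := by
        nth_rw 2 [he]
        exact mul_inv_cancel _
      obtain ⟨m, hm⟩ := H.hT (cm h t)
      have h3 : orderOf (cm h t) ∣ Nat.gcd 2 (p ^ m) :=
        Nat.dvd_gcd (orderOf_dvd_of_pow_eq_one (by rw [pow_two, h2])) (orderOf_dvd_of_pow_eq_one hm)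
      have h4 : Nat.Coprime 2 (p ^ m) :=
        Nat.Coprime.pow_right m ((Nat.coprime_primes Nat.prime_two H.hp).2 (Ne.symm H.hp2))
      rw [h4.gcd_eq_one, Nat.dvd_one, orderOf_eq_one_iff] at h3
      exact h1 h3
    · intro a b ha hb
      obtain ⟨ψ, hψ, he⟩ := htr (cm h a) (cm h b) (hmem a) (hmem b) ha hb
      obtain ⟨k, rfl⟩ := hpow ψ hψ
      exact ⟨k, he⟩
  have h1 : h = 1 := by
    ext t
    exact cm_eq_one.1 (H.no_sing (hXA hhX) hSing t)
  rw [eq_bot_iff]
  intro ψ hψ
  obtain ⟨k, rfl⟩ := hpow ψ hψ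
  rw [h1, one_pow]
  exact Subgroup.mem_bot.2 rfl

end Cfsg.Agent.H788.Elim
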