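import Cfsg.Agent.H802.FusCentric
/-
Elementwise conjugacy in a fusion system, and maps between central elements of `S`.
-/
set_option autoImplicit false

namespace Cfsg.Agent.H788

open Cfsg Cfsg.FusionSystem Cfsg.Agent.H802

variable {Ω : Type*} [Group Ω] {S : Subgroup Ω}

/-- A map of the system on any source containing `x` shows that `x` is conjugate to its image. -/
theorem isConjElt_of_hom {F : FusionSystem S} {P : Subgroup Ω} {φ : P →* Ω} (hφ : φ ∈ F.Hom P)
    {x : Ω} (hx : x ∈ P) : F.IsConjElt x (φ ⟨x, hx⟩) :=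
  ⟨φ.comp (Subgroup.inclusion (Subgroup.zpowers_le.mpr hx)),
    restrict_mem hφ (Subgroup.zpowers_le.mpr hx), rfl⟩

theorem isConjElt_mem_left {F : FusionSystem S} {x y : Ω} (h : F.IsConjElt x y) : x ∈ S := by
  obtain ⟨φ, hφ, -⟩ := h
  exact hom_le hφ (Subgroup.mem_zpowers x)

theorem isConjElt_mem_right {F : FusionSystem S} {x y : Ω} (h : F.IsConjElt x y) : y ∈ S := by
  obtain ⟨φ, hφ, rfl⟩ := h
  exact hom_apply_mem hφ _

theorem isConjElt_refl (F : FusionSystem S) {x : Ω} (hx : x ∈ S) : F.IsConjElt x x :=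
  ⟨_, subtype_mem F (Subgroup.zpowers_le.mpr hx), rfl⟩

theorem isConjElt_trans {F : FusionSystem S} {x y z : Ω} (h : F.IsConjElt x y)
    (h' : F.IsConjElt y z) : F.IsConjElt x z := by
  obtain ⟨φ, hφ, rfl⟩ := h
  obtain ⟨ψ, hψ, rfl⟩ := h'
  have hm : ∀ u : Subgroup.zpowers x, φ u ∈ Subgroup.zpowers (φ ⟨x, Subgroup.mem_zpowers x⟩) := by
    rintro ⟨u, hu⟩
    obtain ⟨k, rfl⟩ := Subgroup.mem_zpowers_iff.mp hu
    refine Subgroup.mem_zpowers_iff.mpr ⟨k, ?_⟩
    rw [← map_zpow]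
    rfl
  exact ⟨_, F.comp_mem hφ hψ hm, rfl⟩

theorem isConjElt_symm {F : FusionSystem S} {x y : Ω} (h : F.IsConjElt x y) :
    F.IsConjElt y x := by
  obtain ⟨φ, hφ, rfl⟩ := h
  obtain ⟨ψ, hψ, h1⟩ := F.inv_mem hφ
  have := isConjElt_of_hom hψ (x := φ ⟨x, Subgroup.mem_zpowers x⟩) ⟨_, rfl⟩
  rwa [h1] at this

theorem isConjElt_inv {F : FusionSystem S} {x y : Ω} (h : F.IsConjElt x y) :
    F.IsConjElt x⁻¹ y⁻¹ := by
  obtain ⟨φ, hφ, rfl⟩ := h
  have := isConjElt_of_hom hφ (x := x⁻¹) (inv_mem (Subgroup.mem_zpowers x))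
  rw [← map_inv]
  exact this

theorem isConjElt_conj (F : FusionSystem S) {x g : Ω} (hx : x ∈ S) (hg : g ∈ S) :
    F.IsConjElt x (g * x * g⁻¹) :=
  isConjElt_of_hom (F.conj_mem (P := S) le_rfl hg) hx

theorem isConjElt_orderOf {F : FusionSystem S} {x y : Ω} (h : F.IsConjElt x y) :
    orderOf y = orderOf x := by
  obtain ⟨φ, hφ, rfl⟩ := h
  rw [orderOf_injective φ (F.injective_of_mem hφ)]
  exact Subgroup.orderOf_mk x _

/-- A conjugacy between elements of the centre of `S` is given by a map of the system on `S`. -/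
theorem exists_hom_of_central {p : ℕ} [Fact p.Prime] [Finite S] (hS : IsPGroup p S)
    {F : FusionSystem S} (hF : F.IsSaturated p) {z y : Ω}
    (hy : y ∈ Subgroup.centralizer (S : Set Ω))
    (hz : z ∈ Subgroup.centralizer (S : Set Ω)) (h : F.IsConjElt z y) :
    ∃ ψ ∈ F.Hom S, ∀ hz : z ∈ S, ψ ⟨z, hz⟩ = y := by
  obtain ⟨φ, hφ, hφz⟩ := h
  have hcent : ∀ (w : Ω), w ∈ Subgroup.centralizer (S : Set Ω) →
      centralizerIn S (Subgroup.zpowers w) = S := by
    intro w hw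
    refine le_antisymm inf_le_left (le_inf le_rfl fun s hs => ?_)
    rw [Subgroup.mem_centralizer_iff]
    rintro u hu
    obtain ⟨k, rfl⟩ := Subgroup.mem_zpowers_iff.mp hu
    have : Commute s w := (Subgroup.mem_centralizer_iff.mp hw s hs)
    exact (this.zpow_right k).eq.symm
  have hr : φ.range = Subgroup.zpowers y := by
    apply le_antisymm
    · rintro _ ⟨⟨u, hu⟩, rfl⟩
      obtain ⟨k, rfl⟩ := Subgroup.mem_zpowers_iff.mp hu
      refine Subgroup.mem_zpowers_iff.mpr ⟨k, ?_⟩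
      rw [← hφz, ← map_zpow]
      rfl
    · rw [Subgroup.zpowers_le]
      exact ⟨_, hφz⟩
  have hfc : F.IsFullyCentralized (Subgroup.zpowers y) := by
    refine ⟨by rw [← hr]; exact range_le_of_mem hφ, fun Q _ => ?_⟩
    rw [hcent y hy]
    exact Subgroup.card_le_of_le inf_le_left
  have hrec := isReceptive_of_isFullyCentralized hS hF hfc
  obtain ⟨ψ, hψ, hψe⟩ := hrec.2 _ φ hφ hr
  have hle : S ≤ extender S (Subgroup.zpowers z) φ := by
    have := centralizerIn_le_extender S (Subgroup.zpowers z) φ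
    rwa [hcent z hz] at this
  refine ⟨ψ.comp (Subgroup.inclusion hle), restrict_mem hψ hle, fun hzS => ?_⟩
  rw [← hφz]
  exact hψe z (Subgroup.mem_zpowers z) (hle hzS)

/-- The values on `Z(S)` of a map of the system on `S` are in `Z(S)`. -/
theorem apply_mem_centralizer [Finite S] {F : FusionSystem S} {ψ : S →* Ω} (hψ : ψ ∈ F.Hom S)
    {z : S} (hz : (z : Ω) ∈ Subgroup.centralizer (S : Set Ω)) :
    ψ z ∈ Subgroup.centralizer (S : Set Ω) := by
  have hr : ψ.range = S := range_eq_of_mapsTo hψ (fun x => hom_apply_mem hψ x)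
  rw [Subgroup.mem_centralizer_iff]
  intro s hs
  have hs' : s ∈ ψ.range := by rw [hr]; exact hs
  obtain ⟨t, rfl⟩ := hs'
  rw [← map_mul, ← map_mul]
  congr 1
  apply Subtype.ext
  exact Subgroup.mem_centralizer_iff.mp hz t t.2

/-- An element of `Aut_F(S)` of `p`-power order centralizes `Z(S)`. -/
theorem apply_eq_of_pow_eq_one {p : ℕ} [Fact p.Prime] [Finite S]
    {F : FusionSystem S} (hF : F.IsSaturated p) {α : MulAut S} (hα : α ∈ F.autGroup S)
    {k : ℕ} (hk : α ^ p ^ k = 1) {z : S} (hz : (z : Ω) ∈ Subgroup.centralizer (S : Set Ω)) :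
    α z = z := by
  have hcen : ∀ w : S, (w : Ω) ∈ Subgroup.centralizer (S : Set Ω) → 
      ∀ {ψ : S →* Ω}, ψ ∈ F.Hom S → ψ w ∈ Subgroup.centralizer (S : Set Ω) :=
    fun w hw ψ hψ => apply_mem_centralizer hψ hw
  obtain ⟨φ, hφ, g, hg, h⟩ := exists_conj_of_orderOf hF le_rfl hα hk
  apply F.injective_of_mem hφ
  rw [h z]
  have h1 := Subgroup.mem_centralizer_iff.mp (hcen z hz hφ) g hg
  rw [h1, mul_inv_cancel_right]

/-- Over a finite `2`-group, a central element inverted by the system is an involution. -/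
theorem sq_eq_one_of_inverted [Finite S] {F : FusionSystem S} (hS : IsPGroup 2 S)
    (hF : F.IsSaturated 2) {z : Ω} (hz : z ∈ Subgroup.centralizer (S : Set Ω))
    (h : F.IsConjElt z z⁻¹) : z * z = 1 := by
  have : Fact (Nat.Prime 2) := ⟨Nat.prime_two⟩
  have hzS := isConjElt_mem_left h
  obtain ⟨ψ, hψ, hψz⟩ := exists_hom_of_central hS hF (inv_mem hz) hz h
  obtain ⟨α, hα, hαψ⟩ := exists_aut hψ (range_eq_of_mapsTo hψ (fun x => hom_apply_mem hψ x))
  set z' : S := ⟨z, hzS⟩ with hz'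
  have h1 : α z' = z'⁻¹ := by
    apply Subtype.ext
    rw [hαψ]
    exact hψz hzS
  have h2 : ∀ n : ℕ, (α ^ (2 * n + 1)) z' = z'⁻¹ := by
    intro n
    induction n with
    | zero => simpa using h1
    | succ n ih =>
      rw [show 2 * (n + 1) + 1 = (2 * n + 1) + 1 + 1 by ring, pow_succ, pow_succ]
      rw [MulAut.mul_apply, MulAut.mul_apply, h1, map_inv, h1, inv_inv, ih]
  have : Finite (MulAut S) := inferInstance
  obtain ⟨k, m, hm, hkm⟩ := Nat.exists_eq_two_pow_mul_odd (n := orderOf α) (orderOf_pos α).ne'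
  obtain ⟨n, hn⟩ := hm
  have h3 : (α ^ m) ^ 2 ^ k = 1 := by
    rw [← pow_mul, mul_comm, ← hkm]
    exact pow_orderOf_eq_one α
  have h4 := apply_eq_of_pow_eq_one hF (pow_mem hα m) h3 (z := z') hz
  rw [hn, h2 n] at h4
  have h5 : (z')⁻¹ = z' := h4
  have h6 : z' * z' = 1 := by
    nth_rewrite 1 [← h5]
    exact inv_mul_cancel z'
  exact congrArg Subtype.val h6

end Cfsg.Agent.H788
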