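import Cfsg.Agent.H759.FusNormal
import Cfsg.Agent.H802.FusCentric
import Cfsg.Agent.H782.RadStep

/-!
# Fixed-point-free automorphisms of fusion systems, first part

The order of `Aut_F(R)` for all `R`, from the centric radical ones; systems preserved by an automorphism of `S`.
-/

set_option autoImplicit false

namespace Cfsg.Agent.H788.Fpf

open Cfsg Cfsg.FusionSystem Cfsg.Agent.H802

variable {Ω : Type*} [Group Ω] {S : Subgroup Ω}

/-! ### Orders of the automizers -/

section dvd

variable [Finite S] {F : FusionSystem S} {r : ℕ}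

theorem not_dvd_of_extends {R R' : Subgroup Ω} (hRR' : R ≤ R') (hR' : R' ≤ S) (hr : r.Prime)
    (hext : ∀ a ∈ F.autGroup R, ∃ b ∈ F.autGroup R', ∀ (x : Ω) (hx : x ∈ R),
      ((b ⟨x, hRR' hx⟩ : R') : Ω) = ((a ⟨x, hx⟩ : R) : Ω))
    (h : ¬ r ∣ Nat.card (F.autGroup R')) : ¬ r ∣ Nat.card (F.autGroup R) := by
  haveI := Fact.mk hr
  haveI : Finite R := finite_of_le (hRR'.trans hR')
  haveI : Finite R' := finite_of_le hR'
  haveI : Finite (MulAut R) := Finite.of_injective _ (DFunLike.coe_injective (F := MulAut R))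
  haveI : Finite (MulAut R') := Finite.of_injective _ (DFunLike.coe_injective (F := MulAut R'))
  intro hd
  obtain ⟨⟨a, ha⟩, hao⟩ := exists_prime_orderOf_dvd_card' r hd
  rw [Subgroup.orderOf_mk] at hao
  obtain ⟨b, hb, hab⟩ := hext a ha
  apply h
  have hpow : ∀ (n : ℕ) (x : Ω) (hx : x ∈ R), (((b ^ n) ⟨x, hRR' hx⟩ : R') : Ω) = (((a ^ n) ⟨x, hx⟩ : R) : Ω) := by
    intro n
    induction n with
    | zero => intro x hx; simp
    | succ n ih =>
      intro x hx
      rw [pow_succ', pow_succ', MulAut.mul_apply, MulAut.mul_apply]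
      have h1 := ih x hx
      have h2 : (b ^ n) ⟨x, hRR' hx⟩ = ⟨((a ^ n) ⟨x, hx⟩ : R), hRR' ((a ^ n) ⟨x, hx⟩).2⟩ := Subtype.ext h1
      rw [h2, hab]
  have h1 : orderOf a ∣ orderOf b := by
    rw [orderOf_dvd_iff_pow_eq_one]
    ext x
    have := hpow (orderOf b) x x.2
    rw [pow_orderOf_eq_one] at this
    simpa using this.symm
  rw [hao] at h1
  have h2 : orderOf b = orderOf (⟨b, hb⟩ : F.autGroup R') := (Subgroup.orderOf_mk b hb).symm
  rw [h2] at h1
  exact h1.trans (orderOf_dvd_natCard _)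

/-- If `r` divides the order of `Aut_F(R)` for no centric radical `R` then it does so for no `R` at all. -/
theorem not_dvd_all {p : ℕ} [Fact p.Prime] (hS : IsPGroup p S) (hF : F.IsSaturated p) (hr : r.Prime)
    (hcr : ∀ R : Subgroup Ω, F.IsCentric R → F.IsRadical p R → ¬ r ∣ Nat.card (F.autGroup R)) :
    ∀ R : Subgroup Ω, R ≤ S → ¬ r ∣ Nat.card (F.autGroup R) := by
  suffices H : ∀ (n : ℕ) (R : Subgroup Ω), R ≤ S → Nat.card S - Nat.card R = n → ¬ r ∣ Nat.card (F.autGroup R) from
    fun R hR => H _ R hR rfl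
  intro n
  induction n using Nat.strong_induction_on with
  | _ n ih =>
  intro R₀ hR₀ hn
  obtain ⟨R, hR₀R, hRn⟩ := exists_isFullyNormalized hS hF hR₀
  rw [card_autGroup_eq hR₀R]
  rw [isConj_card_eq hR₀R] at hn
  have hRS : R ≤ S := hRn.1
  haveI : Finite R := finite_of_le hRS
  have hbig : ∀ R' : Subgroup Ω, R < R' → R' ≤ S → ¬ r ∣ Nat.card (F.autGroup R') := by
    intro R' hlt hR'
    haveI : Finite R' := finite_of_le hR'
    have h1 : Nat.card R < Nat.card R' := by
      refine lt_of_le_of_ne (Subgroup.card_le_of_le hlt.le) ?_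
      intro h
      exact hlt.ne (Subgroup.eq_of_le_of_card_ge hlt.le h.ge)
    have h2 : Nat.card R' ≤ Nat.card S := Subgroup.card_le_of_le hR'
    exact ih (Nat.card S - Nat.card R') (by omega) R' hR' rfl
  by_cases hc : F.IsCentric R
  · by_cases hrad : F.IsRadical p R
    · exact hcr R hc hrad
    · obtain ⟨R₁, hlt, hle, -, hmap⟩ := H782.RadStep.exists_radical_step hS hF hRn hc hrad
      have hR₁S : R₁ ≤ S := hle.trans inf_le_left
      haveI : Finite R₁ := finite_of_le hR₁S
      refine not_dvd_of_extends hlt.le hR₁S hr ?_ (hbig R₁ hlt hR₁S)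
      intro a ha
      have ha' := (mem_autGroup_iff F hRS a).1 ha
      have h1 : R.subtype.comp a.toMonoidHom ∈ F.normalizerHom R R := by
        refine ⟨ha', le_normalizerIn hRS, fun x => le_normalizerIn hRS (a x).2, ?_⟩
        have hsup : R ⊔ R = R := sup_idem R
        have hle' : R ⊔ R ≤ R := sup_idem R |>.le
        refine ⟨(R.subtype.comp a.toMonoidHom).comp (Subgroup.inclusion hle'), restrict_mem ha' hle', fun x => rfl, ?_⟩
        ext y
        constructor
        · rintro ⟨x, -, rfl⟩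
          exact (a _).2
        · intro hy
          refine ⟨⟨(a.symm ⟨y, hy⟩ : R), le_sup_left (a := R) (a.symm ⟨y, hy⟩).2⟩, ?_, ?_⟩
          · exact (a.symm ⟨y, hy⟩).2
          · change ((a ⟨(a.symm ⟨y, hy⟩ : R), _⟩ : R) : Ω) = y
            have : (⟨(a.symm ⟨y, hy⟩ : R), (a.symm ⟨y, hy⟩).2⟩ : R) = a.symm ⟨y, hy⟩ := rfl
            have h2 : a (a.symm ⟨y, hy⟩) = ⟨y, hy⟩ := a.apply_symm_apply _
            exact congrArg Subtype.val h2
      obtain ⟨-, -, -, ψ, hψ, hψe, hψr⟩ := hmap R h1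
      have hsub : R₁ ≤ R ⊔ R₁ := le_sup_right
      have hψ' : ψ.comp (Subgroup.inclusion hsub) ∈ F.Hom R₁ := restrict_mem hψ hsub
      have hrange : (ψ.comp (Subgroup.inclusion hsub)).range = R₁ := by
        refine range_eq_of_mapsTo hψ' fun x => ?_
        have h3 : ψ (Subgroup.inclusion hsub x) ∈ (R₁.subgroupOf (R ⊔ R₁)).map ψ :=
          ⟨_, x.2, rfl⟩
        rw [hψr] at h3
        exact h3
      obtain ⟨b, hb, hbe⟩ := exists_aut hψ' hrange
      refine ⟨b, hb, fun x hx => ?_⟩
      rw [hbe]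
      exact hψe ⟨x, hx⟩
  · have hrec : F.IsReceptive R := isReceptive_of_isFullyNormalized hS hF hRn
    have hfc : F.IsFullyCentralized R := isFullyCentralized_of_isFullyNormalized hS hF hRn
    have hC : ¬ centralizerIn S R ≤ R := fun h => hc (isCentric_of_isFullyCentralized hfc h)
    have hR'S : R ⊔ centralizerIn S R ≤ S := sup_le hRS inf_le_left
    have hlt : R < R ⊔ centralizerIn S R := left_lt_sup.2 hC
    haveI : Finite (R ⊔ centralizerIn S R : Subgroup Ω) := finite_of_le hR'S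
    refine not_dvd_of_extends hlt.le hR'S hr ?_ (hbig _ hlt hR'S)
    intro a ha
    have ha' := (mem_autGroup_iff F hRS a).1 ha
    have hrg : (R.subtype.comp a.toMonoidHom).range = R := by
      ext y
      constructor
      · rintro ⟨x, rfl⟩
        exact (a x).2
      · intro hy
        exact ⟨a.symm ⟨y, hy⟩, congrArg Subtype.val (a.apply_symm_apply (⟨y, hy⟩ : R))⟩
    obtain ⟨ψ, hψ, hψe⟩ := hrec.2 R _ ha' hrg
    have h1 : R ≤ extender S R (R.subtype.comp a.toMonoidHom) := le_extender hRS fun x => hRS (a x).2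
    have h2 : centralizerIn S R ≤ extender S R (R.subtype.comp a.toMonoidHom) := centralizerIn_le_extender S R _
    have hsub := sup_le h1 h2
    have hψ' : ψ.comp (Subgroup.inclusion hsub) ∈ F.Hom (R ⊔ centralizerIn S R) := restrict_mem hψ hsub
    have hmaps : ∀ x : ↥(R ⊔ centralizerIn S R), (ψ.comp (Subgroup.inclusion hsub)) x ∈ R ⊔ centralizerIn S R := by
      apply H759.hom_sup_mem
      · intro x hx hx'
        have h3 : ψ ⟨x, hsub hx'⟩ = ((a ⟨x, hx⟩ : R) : Ω) := hψe x hx (hsub hx')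
        change ψ ⟨x, hsub hx'⟩ ∈ _
        rw [h3]
        exact Subgroup.mem_sup_left (a ⟨x, hx⟩).2
      · intro x hx hx'
        have h3 := apply_mem_centralizerIn (P := R) (Q := R) (R := extender S R (R.subtype.comp a.toMonoidHom)) hψ h1 hrg
          (fun x hx => hψe x hx (h1 hx)) ⟨x, hsub hx'⟩ hx.2
        exact Subgroup.mem_sup_right h3
    obtain ⟨b, hb, hbe⟩ := exists_aut hψ' (range_eq_of_mapsTo hψ' hmaps)
    refine ⟨b, hb, fun x hx => ?_⟩
    rw [hbe]
    exact hψe x hx _

end dvd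

end Cfsg.Agent.H788.Fpf
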