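import Cfsg.Agent.H759.FusSolvable
import Cfsg.Agent.H771.NExt
import Cfsg.Agent.H751.Constr
import Cfsg.Agent.H781.NormSys

/-!
# Fixed-point-free automorphisms of fusion systems, second part

Systems preserved by an automorphism `α` of `S`; invariant subgroups, factor systems.
-/

set_option autoImplicit false

namespace Cfsg.Agent.H788.Fpf

open Cfsg Cfsg.FusionSystem Cfsg.Agent.H802 Cfsg.Agent.H771

universe u

section basic

variable {Ω : Type*} [Group Ω] {S : Subgroup Ω}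

/-- `α` preserves the maps of `F`. -/
def Pres (F : FusionSystem S) (α : MulAut ↥S) : Prop :=
  ∀ (P Q : Subgroup Ω) (φ : P →* Ω), φ ∈ F.Hom P → Q ≤ S → (∀ x : S, (x : Ω) ∈ P ↔ ((α x : S) : Ω) ∈ Q) →
    ∃ φ' ∈ F.Hom Q, ∀ (x : S) (hx : (x : Ω) ∈ P) (hx' : ((α x : S) : Ω) ∈ Q) (hy : φ ⟨x, hx⟩ ∈ S),
      φ' ⟨(α x : S), hx'⟩ = ((α ⟨φ ⟨x, hx⟩, hy⟩ : S) : Ω)

/-- The image of `P` under `α`. -/
def img (α : MulAut ↥S) (P : Subgroup Ω) : Subgroup Ω := (P.subgroupOf S).map (S.subtype.comp α.toMonoidHom)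

theorem mem_img {α : MulAut ↥S} {P : Subgroup Ω} {y : Ω} :
    y ∈ img α P ↔ ∃ x : S, (x : Ω) ∈ P ∧ ((α x : S) : Ω) = y := by
  constructor
  · rintro ⟨x, hx, rfl⟩; exact ⟨x, hx, rfl⟩
  · rintro ⟨x, hx, rfl⟩; exact ⟨x, hx, rfl⟩

theorem apply_mem_img {α : MulAut ↥S} {P : Subgroup Ω} {x : S} : ((α x : S) : Ω) ∈ img α P ↔ (x : Ω) ∈ P := by
  rw [mem_img]
  constructor
  · rintro ⟨y, hy, h⟩
    have : y = x := α.injective (Subtype.ext h)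
    rwa [← this]
  · intro h; exact ⟨x, h, rfl⟩

theorem img_le {α : MulAut ↥S} {P : Subgroup Ω} : img α P ≤ S := by
  intro y hy
  obtain ⟨x, -, rfl⟩ := mem_img.1 hy
  exact (α x).2

theorem eq_img {α : MulAut ↥S} {P Q : Subgroup Ω} (hQ : Q ≤ S) (h : ∀ x : S, (x : Ω) ∈ P ↔ ((α x : S) : Ω) ∈ Q) :
    Q = img α P := by
  ext y
  rw [mem_img]
  constructor
  · intro hy
    refine ⟨α⁻¹ ⟨y, hQ hy⟩, ?_, ?_⟩
    · rw [h, MulAut.apply_inv_self]; exact hy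
    · rw [MulAut.apply_inv_self]
  · rintro ⟨x, hx, rfl⟩
    exact (h x).1 hx

theorem img_sup {α : MulAut ↥S} {P Q : Subgroup Ω} (hP : P ≤ S) (hQ : Q ≤ S) : img α (P ⊔ Q) = img α P ⊔ img α Q := by
  unfold img
  rw [Subgroup.subgroupOf_sup hP hQ, Subgroup.map_sup]

theorem img_img_inv {α : MulAut ↥S} {P : Subgroup Ω} (hP : P ≤ S) : img α (img α⁻¹ P) = P := by
  refine (eq_img hP fun x => ?_).symm
  conv_lhs => rw [← MulAut.inv_apply_self S α x]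
  exact apply_mem_img

theorem pres_of_isMorphism {F : FusionSystem S} {α : MulAut ↥S}
    (h : F.IsMorphism F (S.subtype.comp α.toMonoidHom)) : Pres F α := by
  intro P Q φ hφ hQ hPQ
  obtain ⟨φ', hφ', hi⟩ := h.2 P φ hφ
  have hQ' : Q = imageAlong (S.subtype.comp α.toMonoidHom) P := eq_img hQ hPQ
  subst hQ'
  refine ⟨φ', hφ', fun x hx hx' hy => ?_⟩
  obtain ⟨hP, hφS, hP', he⟩ := hi
  exact he ⟨x, hx⟩

theorem pres_one {F : FusionSystem S} : Pres F 1 := by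
  intro P Q φ hφ hQ hPQ
  have hQ' : P = Q := by
    ext y
    constructor
    · intro hy
      exact (hPQ ⟨y, (F.le_of_mem hφ).1 hy⟩).1 hy
    · intro hy
      exact (hPQ ⟨y, hQ hy⟩).2 hy
  subst hQ'
  exact ⟨φ, hφ, fun x hx hx' hy => rfl⟩

theorem Pres.mul {F : FusionSystem S} {α β : MulAut ↥S} (hα : Pres F α) (hβ : Pres F β) : Pres F (α * β) := by
  intro P Q φ hφ hQ hPQ
  obtain ⟨φ₁, hφ₁, h1⟩ := hβ P (img β P) φ hφ img_le fun x => apply_mem_img.symm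
  have h2 : ∀ x : S, (x : Ω) ∈ img β P ↔ ((α x : S) : Ω) ∈ Q := by
    intro x
    have h3 := hPQ (β⁻¹ x)
    rw [MulAut.mul_apply, MulAut.apply_inv_self] at h3
    rw [← h3]
    conv_lhs => rw [← MulAut.apply_inv_self S β x]
    exact apply_mem_img
  obtain ⟨φ₂, hφ₂, h4⟩ := hα (img β P) Q φ₁ hφ₁ hQ h2
  refine ⟨φ₂, hφ₂, fun x hx hx' hy => ?_⟩
  have h5 := h1 x hx (apply_mem_img.2 hx) hy
  have hy' : φ₁ ⟨(β x : S), apply_mem_img.2 hx⟩ ∈ S := by rw [h5]; exact (β _).2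
  have h6 := h4 (β x) (apply_mem_img.2 hx) hx' hy'
  refine h6.trans ?_
  have h7 : (⟨φ₁ ⟨(β x : S), apply_mem_img.2 hx⟩, hy'⟩ : S) = β ⟨φ ⟨x, hx⟩, hy⟩ := Subtype.ext h5
  rw [h7]
  rfl

theorem Pres.pow {F : FusionSystem S} {α : MulAut ↥S} (hα : Pres F α) (n : ℕ) : Pres F (α ^ n) := by
  induction n with
  | zero => rw [pow_zero]; exact pres_one
  | succ n ih => rw [pow_succ]; exact ih.mul hα

theorem Pres.inv [Finite S] {F : FusionSystem S} {α : MulAut ↥S} (hα : Pres F α) : Pres F α⁻¹ := by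
  have : Finite (MulAut S) := Finite.of_injective _ (DFunLike.coe_injective (F := MulAut S))
  have hfin : IsOfFinOrder α := isOfFinOrder_of_finite α
  obtain ⟨n, hn⟩ : ∃ n : ℕ, α ^ n = α⁻¹ := by
    obtain ⟨n, hn⟩ := hfin.mem_powers_iff_mem_zpowers.2 (inv_mem (Subgroup.mem_zpowers α))
    exact ⟨n, hn⟩
  rw [← hn]
  exact hα.pow n

/-- `P` is invariant under `α`. -/
def AInv (α : MulAut ↥S) (P : Subgroup Ω) : Prop := ∀ x : S, (x : Ω) ∈ P ↔ ((α x : S) : Ω) ∈ P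

theorem AInv.img_eq {α : MulAut ↥S} {P : Subgroup Ω} (hP : P ≤ S) (h : AInv α P) : img α P = P := (eq_img hP h).symm

theorem aInv_of_img {α : MulAut ↥S} {P : Subgroup Ω} (h : img α P = P) : AInv α P := fun x => by
  have := apply_mem_img (α := α) (P := P) (x := x)
  rw [h] at this
  exact this.symm

/-- The restriction of `α` to an invariant subgroup. -/
def res (α : MulAut ↥S) {P : Subgroup Ω} (hP : P ≤ S) (h : AInv α P) : MulAut P where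
  toFun x := ⟨(α ⟨x, hP x.2⟩ : S), (h _).1 x.2⟩
  invFun x := ⟨(α⁻¹ ⟨x, hP x.2⟩ : S), (h _).2 (by rw [MulAut.apply_inv_self]; exact x.2)⟩
  left_inv x := by
    apply Subtype.ext
    change ((α⁻¹ ⟨(α ⟨x, hP x.2⟩ : S), _⟩ : S) : Ω) = x
    have : (⟨(α ⟨x, hP x.2⟩ : S), (α ⟨x, hP x.2⟩).2⟩ : S) = α ⟨x, hP x.2⟩ := rfl
    rw [this, MulAut.inv_apply_self]
  right_inv x := by
    apply Subtype.ext
    change ((α ⟨(α⁻¹ ⟨x, hP x.2⟩ : S), _⟩ : S) : Ω) = x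
    have : (⟨(α⁻¹ ⟨x, hP x.2⟩ : S), (α⁻¹ ⟨x, hP x.2⟩).2⟩ : S) = α⁻¹ ⟨x, hP x.2⟩ := rfl
    rw [this, MulAut.apply_inv_self]
  map_mul' x y := by
    apply Subtype.ext
    change ((α ⟨(x * y : P), _⟩ : S) : Ω) = (α ⟨x, _⟩ : S) * (α ⟨y, _⟩ : S)
    rw [← Subgroup.coe_mul, ← map_mul]
    rfl

theorem coe_res {α : MulAut ↥S} {P : Subgroup Ω} (hP : P ≤ S) (h : AInv α P) (x : P) :
    ((res α hP h x : P) : Ω) = (α ⟨x, hP x.2⟩ : S) := rfl

theorem coe_res_pow {α : MulAut ↥S} {P : Subgroup Ω} (hP : P ≤ S) (h : AInv α P) (n : ℕ) (x : P) :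
    (((res α hP h ^ n) x : P) : Ω) = ((α ^ n) ⟨x, hP x.2⟩ : S) := by
  induction n generalizing x with
  | zero => rfl
  | succ n ih =>
    rw [pow_succ, pow_succ, MulAut.mul_apply, MulAut.mul_apply, ih]
    rfl

theorem res_pow_eq_one {α : MulAut ↥S} {P : Subgroup Ω} (hP : P ≤ S) (h : AInv α P) {n : ℕ} (hn : α ^ n = 1) :
    res α hP h ^ n = 1 := by
  ext x
  rw [coe_res_pow, hn]
  rfl

/-- Conjugation by the restriction of `α` preserves `Aut_F(P)`. -/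
theorem Pres.conj_mem {F : FusionSystem S} {α : MulAut ↥S} (hα : Pres F α) {P : Subgroup Ω} (hP : P ≤ S)
    (h : AInv α P) {a : MulAut P} (ha : a ∈ F.autGroup P) : res α hP h * a * (res α hP h)⁻¹ ∈ F.autGroup P := by
  rw [mem_autGroup_iff F hP] at ha ⊢
  obtain ⟨φ', hφ', h1⟩ := hα P P _ ha hP h
  refine mem_of_apply_eq hφ' fun y => ?_
  obtain ⟨x, rfl⟩ : ∃ x, res α hP h x = y := ⟨(res α hP h)⁻¹ y, MulAut.apply_inv_self _ _ _⟩
  change ((((res α hP h * a * (res α hP h)⁻¹) (res α hP h x) : P)) : Ω) = _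
  rw [MulAut.mul_apply, MulAut.mul_apply, MulAut.inv_apply_self, coe_res]
  have h2 := h1 ⟨x, hP x.2⟩ x.2 (res α hP h x).2 (hP (a x).2)
  exact h2.symm

theorem Pres.conj_mem_iff [Finite S] {F : FusionSystem S} {α : MulAut ↥S} (hα : Pres F α) {P : Subgroup Ω} (hP : P ≤ S)
    (h : AInv α P) (a : MulAut P) : a ∈ F.autGroup P ↔ res α hP h * a * (res α hP h)⁻¹ ∈ F.autGroup P := by
  refine ⟨hα.conj_mem hP h, fun ha => ?_⟩
  have h' : AInv α⁻¹ P := fun x => by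
    conv_lhs => rw [← MulAut.apply_inv_self S α x]
    exact (h _).symm
  have h1 := hα.inv.conj_mem hP h' ha
  have h2 : res α⁻¹ hP h' = (res α hP h)⁻¹ := rfl
  rw [h2] at h1
  simpa [mul_assoc] using h1

/-- The injectivity argument for a fixed-point-free automorphism. -/
theorem mem_of_fpf {G : Type*} [Group G] [Finite G] {α : MulAut G} (hfix : ∀ x : G, α x = x → x = 1) {N : Subgroup G}
    (hN : ∀ n ∈ N, α n ∈ N) {s : G} (hs : s⁻¹ * α s ∈ N) : s ∈ N := by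
  have hinj : ∀ a b : G, a⁻¹ * α a = b⁻¹ * α b → a = b := by
    intro a b hab
    have h1 : b * a⁻¹ = 1 := by
      apply hfix
      rw [map_mul, map_inv]
      have h2 : α a = a * (b⁻¹ * α b) := by rw [← hab]; group
      rw [h2]
      group
    rw [mul_inv_eq_one] at h1
    exact h1.symm
  let f : N → N := fun n => ⟨(n : G)⁻¹ * α n, mul_mem (inv_mem n.2) (hN n n.2)⟩
  have hf : Function.Injective f := fun a b hab => Subtype.ext (hinj a b (congrArg Subtype.val hab))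
  obtain ⟨n, hn⟩ := (Finite.surjective_of_injective hf) ⟨_, hs⟩
  have h1 : (n : G) = s := hinj n s (congrArg Subtype.val hn)
  rw [← h1]
  exact n.2

end basic

section invariant

variable {Ω : Type u} [Group Ω] {S : Subgroup Ω}

theorem isNormal_img [Finite S] {F : FusionSystem S} {α : MulAut ↥S} (hα : Pres F α) {Q : Subgroup Ω}
    (hQ : F.IsNormal Q) : F.IsNormal (img α Q) := by
  have : Finite (img α Q) := finite_of_le img_le
  refine isNormal_of_nExt img_le fun P φ hφ => ?_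
  have hP : P ≤ S := (F.le_of_mem hφ).1
  obtain ⟨φ₀, hφ₀, h0⟩ := hα.inv P (img α⁻¹ P) φ hφ img_le fun x => apply_mem_img.symm
  obtain ⟨ψ₀, hψ₀, h1, h2⟩ := nExt_of_isNormal hQ hφ₀
  have hR : img α (img α⁻¹ P ⊔ Q) = P ⊔ img α Q := by
    rw [img_sup img_le hQ.1, img_img_inv hP]
  have hR' : ∀ x : S, (x : Ω) ∈ img α⁻¹ P ⊔ Q ↔ ((α x : S) : Ω) ∈ P ⊔ img α Q := by
    intro x
    rw [← hR]
    exact apply_mem_img.symm
  obtain ⟨ψ, hψ, h3⟩ := hα (img α⁻¹ P ⊔ Q) (P ⊔ img α Q) ψ₀ hψ₀ (sup_le hP img_le) hR'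
  refine ⟨ψ, hψ, fun x hx hx' => ?_, fun y hy hy' => ?_⟩
  · -- `x = α x₀`
    obtain ⟨x₀, hx₀⟩ : ∃ x₀ : S, α x₀ = ⟨x, hP hx⟩ := ⟨α⁻¹ ⟨x, hP hx⟩, MulAut.apply_inv_self _ _ _⟩
    have hx₀' : x₀ = α⁻¹ ⟨x, hP hx⟩ := by rw [← hx₀, MulAut.inv_apply_self]
    have hx₁ : (x₀ : Ω) ∈ img α⁻¹ P := by rw [hx₀']; exact apply_mem_img.2 hx
    have e1 : ψ₀ ⟨x₀, le_sup_left (a := img α⁻¹ P) hx₁⟩ = φ₀ ⟨x₀, hx₁⟩ := h1 x₀ hx₁ _
    have hφS : φ ⟨x, hx⟩ ∈ S := (F.le_of_mem hφ).2 _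
    have e2 : φ₀ ⟨x₀, hx₁⟩ = ((α⁻¹ ⟨φ ⟨x, hx⟩, hφS⟩ : S) : Ω) := by
      have := h0 ⟨x, hP hx⟩ hx (apply_mem_img.2 hx) hφS
      subst hx₀'
      exact this
    have hψS : ψ₀ ⟨x₀, le_sup_left (a := img α⁻¹ P) hx₁⟩ ∈ S := (F.le_of_mem hψ₀).2 _
    have hαx₀ : ((α x₀ : S) : Ω) ∈ P ⊔ img α Q := (hR' x₀).1 (le_sup_left (a := img α⁻¹ P) hx₁)
    have e3 := h3 x₀ (le_sup_left (a := img α⁻¹ P) hx₁) hαx₀ hψS
    have e4 : ψ ⟨(α x₀ : S), hαx₀⟩ = ψ ⟨x, hx'⟩ :=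
      congrArg ψ (Subtype.ext (congrArg (Subtype.val : S → Ω) hx₀))
    rw [← e4, e3]
    have e5 : (⟨ψ₀ ⟨x₀, le_sup_left (a := img α⁻¹ P) hx₁⟩, hψS⟩ : S) = α⁻¹ ⟨φ ⟨x, hx⟩, hφS⟩ :=
      Subtype.ext (e1.trans e2)
    rw [e5, MulAut.apply_inv_self]
  · obtain ⟨y₀, hy₀, hy₁⟩ := mem_img.1 hy
    have hψS : ψ₀ ⟨y₀, le_sup_right (a := img α⁻¹ P) hy₀⟩ ∈ S := (F.le_of_mem hψ₀).2 _
    have hαy₀ : ((α y₀ : S) : Ω) ∈ P ⊔ img α Q := (hR' y₀).1 (le_sup_right (a := img α⁻¹ P) hy₀)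
    have e3 := h3 y₀ (le_sup_right (a := img α⁻¹ P) hy₀) hαy₀ hψS
    have e4 : ψ ⟨(α y₀ : S), hαy₀⟩ = ψ ⟨y, hy'⟩ := congrArg ψ (Subtype.ext hy₁)
    rw [← e4, e3]
    refine apply_mem_img.2 ?_
    exact h2 y₀ hy₀ _

theorem aInv_core [Finite S] {F : FusionSystem S} {α : MulAut ↥S} (hα : Pres F α) : AInv α F.core := by
  have key : ∀ β : MulAut ↥S, Pres F β → ∀ x : S, (x : Ω) ∈ F.core → ((β x : S) : Ω) ∈ F.core := by
    intro β hβ x hx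
    have h1 : F.IsNormal (img β F.core) := isNormal_img hβ H759.isNormal_core
    exact H759.IsNormal.le_core h1 (apply_mem_img.2 hx)
  intro x
  refine ⟨key α hα x, fun hx => ?_⟩
  have := key α⁻¹ hα.inv (α x) hx
  rwa [MulAut.inv_apply_self] at this

end invariant

section factor

variable {Ω : Type*} [Group Ω] {S : Subgroup Ω} {Ω' : Type*} [Group Ω'] {S' : Subgroup Ω'}
variable {F : FusionSystem S} {Q : Subgroup Ω} {θ : S →* Ω'} {E : FusionSystem S'}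

theorem theta_mem (hE : F.IsFactorSystem Q θ E) (x : S) : θ x ∈ S' := by
  rw [← hE.2.2.1]; exact ⟨x, rfl⟩

theorem exists_theta (hE : F.IsFactorSystem Q θ E) (y : S') : ∃ x : S, θ x = y :=
  MonoidHom.mem_range.1 (hE.2.2.1.symm ▸ y.2)

/-- The factor system is preserved by the induced automorphism. -/
theorem pres_factor (hQ : F.StronglyClosed Q) (hE : F.IsFactorSystem Q θ E) {α : MulAut ↥S} (hα : Pres F α)
    {β : MulAut ↥S'} (hβ : ∀ x : S, ((β ⟨θ x, theta_mem hE x⟩ : S') : Ω') = θ (α x)) : Pres E β := by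
  intro P' Q' φ' hφ' hQ' hPQ
  obtain ⟨φ, hφ, hφe⟩ := H759.exists_map_of_factor hE hφ'
  have h1 : ∀ x : S, (x : Ω) ∈ preimageAlong θ P' ↔ ((α x : S) : Ω) ∈ preimageAlong θ Q' := by
    intro x
    have e1 : (x : Ω) ∈ preimageAlong θ P' ↔ θ x ∈ P' := by
      rw [H759.mem_preimageAlong]
      exact ⟨fun ⟨_, h⟩ => h, fun h => ⟨x.2, h⟩⟩
    have e2 : ((α x : S) : Ω) ∈ preimageAlong θ Q' ↔ θ (α x) ∈ Q' := by
      rw [H759.mem_preimageAlong]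
      exact ⟨fun ⟨_, h⟩ => h, fun h => ⟨(α x).2, h⟩⟩
    rw [e1, e2, ← hβ]
    exact hPQ ⟨θ x, theta_mem hE x⟩
  obtain ⟨ψ, hψ, hψe⟩ := hα (preimageAlong θ P') (preimageAlong θ Q') φ hφ H759.preimageAlong_le h1
  obtain ⟨ψ', hψ', hψe'⟩ := H759.exists_factor_map hQ hE hψ hQ' le_rfl
  refine ⟨ψ', hψ', ?_⟩
  rintro ⟨y, hyS⟩ hx hx' hy
  obtain ⟨x, hxy⟩ : ∃ x : S, θ x = y := exists_theta hE ⟨y, hyS⟩
  subst hxy
  have hxP : (x : Ω) ∈ preimageAlong θ P' := H759.mem_preimageAlong.2 ⟨x.2, hx⟩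
  have hxQ : ((α x : S) : Ω) ∈ preimageAlong θ Q' := (h1 x).1 hxP
  have hφS : φ ⟨x, hxP⟩ ∈ S := (F.le_of_mem hφ).2 _
  have hψS : ψ ⟨(α x : S), hxQ⟩ ∈ S := (F.le_of_mem hψ).2 _
  have a1 : φ' ⟨θ x, hx⟩ = θ ⟨φ ⟨x, hxP⟩, hφS⟩ := hφe x hxP x.2 hx hφS
  have a2 : ψ ⟨(α x : S), hxQ⟩ = ((α ⟨φ ⟨x, hxP⟩, hφS⟩ : S) : Ω) := hψe x hxP hxQ hφS
  have hθα : θ (α x) ∈ Q' := by rw [← hβ]; exact hx'
  have a3 : ψ' ⟨θ (α x), hθα⟩ = θ ⟨ψ ⟨(α x : S), hxQ⟩, hψS⟩ := hψe' (α x) hxQ (α x).2 hθα hψS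
  have a4 : ψ' ⟨((β ⟨θ x, hyS⟩ : S') : Ω'), hx'⟩ = ψ' ⟨θ (α x), hθα⟩ := congrArg ψ' (Subtype.ext (hβ x))
  have a5 : (⟨ψ ⟨(α x : S), hxQ⟩, hψS⟩ : S) = α ⟨φ ⟨x, hxP⟩, hφS⟩ := Subtype.ext a2
  have a6 : (⟨φ' ⟨θ x, hx⟩, hy⟩ : S') = ⟨θ ⟨φ ⟨x, hxP⟩, hφS⟩, theta_mem hE _⟩ := Subtype.ext a1
  rw [a4, a3, a5, a6, hβ]

/-- Orders of automizers in the factor system. -/
theorem not_dvd_factor [Finite S] (hE : F.IsFactorSystem Q θ E) {r : ℕ} (hr : r.Prime)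
    (h : ∀ R : Subgroup Ω, R ≤ S → ¬ r ∣ Nat.card (F.autGroup R)) :
    ∀ R' : Subgroup Ω', R' ≤ S' → ¬ r ∣ Nat.card (E.autGroup R') := by
  intro R' hR' hd
  haveI := Fact.mk hr
  have hS'fin : Finite S' := Finite.of_surjective (fun x : S => (⟨θ x, theta_mem hE x⟩ : S')) (by
    intro y
    obtain ⟨x, hx⟩ := exists_theta hE y
    exact ⟨x, Subtype.ext hx⟩)
  have hR'fin : Finite R' := finite_of_le hR'
  have : Finite (MulAut R') := Finite.of_injective _ (DFunLike.coe_injective (F := MulAut R'))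
  obtain ⟨⟨a', ha'⟩, hao⟩ := exists_prime_orderOf_dvd_card' r hd
  rw [Subgroup.orderOf_mk] at hao
  have ha'' := (mem_autGroup_iff E hR' a').1 ha'
  obtain ⟨φ, hφ, hφe⟩ := H759.exists_map_of_factor hE ha''
  have hpre : preimageAlong θ R' ≤ S := H759.preimageAlong_le
  have hfinpre : Finite (preimageAlong θ R') := finite_of_le hpre
  have : Finite (MulAut (preimageAlong θ R')) :=
    Finite.of_injective _ (DFunLike.coe_injective (F := MulAut (preimageAlong θ R')))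
  have hθ : ∀ x : preimageAlong θ R', θ ⟨x, hpre x.2⟩ ∈ R' := fun x => (H759.mem_preimageAlong.1 x.2).2
  have hmaps : ∀ x, φ x ∈ preimageAlong θ R' := by
    intro x
    have hφS : φ x ∈ S := (F.le_of_mem hφ).2 _
    refine H759.mem_preimageAlong.2 ⟨hφS, ?_⟩
    have := hφe x x.2 (hpre x.2) (hθ x) hφS
    rw [← this]
    exact (a' _).2
  obtain ⟨a, ha, hae⟩ := exists_aut hφ (range_eq_of_mapsTo hφ hmaps)
  have key : ∀ (n : ℕ) (x : preimageAlong θ R'),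
      (((a' ^ n) ⟨θ ⟨x, hpre x.2⟩, hθ x⟩ : R') : Ω') = θ ⟨(a ^ n) x, hpre ((a ^ n) x).2⟩ := by
    intro n
    induction n with
    | zero => intro x; rfl
    | succ n ih =>
      intro x
      rw [pow_succ', MulAut.mul_apply]
      have e1 : (a' ^ n) ⟨θ ⟨x, hpre x.2⟩, hθ x⟩ = ⟨θ ⟨(a ^ n) x, hpre ((a ^ n) x).2⟩, hθ _⟩ := Subtype.ext (ih x)
      rw [e1]
      have hφS : φ ((a ^ n) x) ∈ S := (F.le_of_mem hφ).2 _
      have e2 := hφe ((a ^ n) x) ((a ^ n) x).2 (hpre ((a ^ n) x).2) (hθ _) hφS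
      refine e2.trans ?_
      congr 1
      apply Subtype.ext
      change φ ((a ^ n) x) = ((a ^ (n + 1)) x : preimageAlong θ R')
      rw [pow_succ', MulAut.mul_apply, hae]
  have h1 : a' ^ orderOf a = 1 := by
    ext y
    obtain ⟨x, hx⟩ := exists_theta hE ⟨y, hR' y.2⟩
    have hx' : (x : Ω) ∈ preimageAlong θ R' := H759.mem_preimageAlong.2 ⟨x.2, by rw [hx]; exact y.2⟩
    have e1 := key (orderOf a) ⟨x, hx'⟩
    rw [pow_orderOf_eq_one] at e1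
    have e2 : (⟨θ x, hθ ⟨x, hx'⟩⟩ : R') = y := Subtype.ext hx
    have e3 : ((a' ^ orderOf a) ⟨θ x, hθ ⟨x, hx'⟩⟩ : Ω') = θ x := e1
    rw [e2] at e3
    rw [e3, hx]
    rfl
  have h2 : r ∣ orderOf a := by
    rw [← hao]
    exact orderOf_dvd_of_pow_eq_one h1
  apply h _ hpre
  have h3 : orderOf a = orderOf (⟨a, ha⟩ : F.autGroup (preimageAlong θ R')) := (Subgroup.orderOf_mk a ha).symm
  rw [h3] at h2
  exact h2.trans (orderOf_dvd_natCard _)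

end factor

end Cfsg.Agent.H788.Fpf
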