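import Cfsg.Agent.H788.FpfB
import Cfsg.Agent.H788.ConsGroup

/-!
# Fixed-point-free automorphisms of fusion systems, third part

The constrained case.
-/

set_option autoImplicit false

namespace Cfsg.Agent.H788.Fpf

open Cfsg Cfsg.FusionSystem Cfsg.Agent.H802 Cfsg.Agent.H771
open scoped commutatorElement

universe u

section chain

variable {Ω : Type*} [Group Ω] {S : Subgroup Ω} {F : FusionSystem S}

theorem hasChain_self : H759.HasChain F S :=
  ⟨0, fun _ => S, rfl, rfl, fun _ => H759.StronglyClosed.top, fun _ => le_rfl, fun _ => Subgroup.commutator_le_self S⟩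

theorem hasChain_step {R R' : Subgroup Ω} (h : H759.HasChain F R') (hR : F.StronglyClosed R) (hle : R ≤ R')
    (hc : ⁅R', R'⁆ ≤ R) : H759.HasChain F R := by
  obtain ⟨m, c, h0, hm, hsc, hmono, hcomm⟩ := h
  refine ⟨m + 1, fun i => Nat.casesOn i R c, rfl, hm, ?_, ?_, ?_⟩
  · rintro (_ | i)
    · exact hR
    · exact hsc i
  · rintro (_ | i)
    · change R ≤ c 0
      rw [h0]; exact hle
    · exact hmono i
  · rintro (_ | i)
    · change ⁅c 0, c 0⁆ ≤ R
      rw [h0]; exact hc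
    · exact hcomm i

theorem hasChain_bot [Finite S] {p : ℕ} [Fact p.Prime] (hS : IsPGroup p S) {Q : Subgroup Ω} (hQ : F.IsNormal Q)
    (h : H759.HasChain F Q) : H759.HasChain F ⊥ := by
  have hQp : IsPGroup p Q := hS.of_injective (Subgroup.inclusion hQ.1) (Subgroup.inclusion_injective _)
  have : Finite Q := finite_of_le hQ.1
  have hnil : Group.IsNilpotent Q := hQp.isNilpotent
  have key : ∀ n, H759.HasChain F ((derivedSeries Q n).map Q.subtype) := by
    intro n
    induction n with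
    | zero =>
      rw [derivedSeries_zero, ← MonoidHom.range_eq_map, Subgroup.range_subtype]
      exact h
    | succ n ih =>
      refine hasChain_step ih (H751.stronglyClosed_map_char hQ _) (Subgroup.map_mono (derivedSeries_antitone _ n.le_succ)) ?_
      rw [← Subgroup.map_commutator, derivedSeries_succ]
  obtain ⟨n, hn⟩ := (Group.isSolvable_def Q).1 inferInstance
  have := key n
  rwa [hn, Subgroup.map_bot] at this

end chain

section factor

variable {Ω : Type*} [Group Ω] {S : Subgroup Ω} {Ω' : Type*} [Group Ω'] {S' : Subgroup Ω'}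
variable {F : FusionSystem S} {Q : Subgroup Ω} {θ : S →* Ω'} {E : FusionSystem S'}

theorem hasChain_preimage [Finite S] {p : ℕ} [Fact p.Prime] (hS : IsPGroup p S) (hF : F.IsSaturated p)
    (hQ : F.StronglyClosed Q) (hE : F.IsFactorSystem Q θ E) (hN : E.IsNormal S') : H759.HasChain F Q := by
  let f : S →* S' := θ.codRestrict S' (theta_mem hE)
  have hf : Function.Surjective f := by
    intro y
    obtain ⟨x, hx⟩ := exists_theta hE y
    exact ⟨x, Subtype.ext hx⟩
  have hS'p : IsPGroup p S' := hS.of_surjective f hf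
  have hfin : Finite S' := Finite.of_surjective f hf
  have hnil : Group.IsNilpotent S' := hS'p.isNilpotent
  have key : ∀ n, H759.HasChain F (preimageAlong θ ((derivedSeries S' n).map S'.subtype)) := by
    intro n
    induction n with
    | zero =>
      rw [derivedSeries_zero, ← MonoidHom.range_eq_map, Subgroup.range_subtype]
      have : preimageAlong θ S' = S := by
        refine le_antisymm H759.preimageAlong_le fun x hx => ?_
        exact H759.mem_preimageAlong.2 ⟨hx, theta_mem hE _⟩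
      rw [this]
      exact hasChain_self
    | succ n ih =>
      refine hasChain_step ih (H759.stronglyClosed_preimage hS hF hQ hE (H751.stronglyClosed_map_char hN _))
        (H759.preimageAlong_mono (Subgroup.map_mono (derivedSeries_antitone _ n.le_succ))) ?_
      rw [derivedSeries_succ, Subgroup.map_commutator]
      rw [Subgroup.commutator_le]
      intro a ha b hb
      obtain ⟨haS, ha'⟩ := H759.mem_preimageAlong.1 ha
      obtain ⟨hbS, hb'⟩ := H759.mem_preimageAlong.1 hb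
      have hab : ⁅a, b⁆ ∈ S := by
        rw [commutatorElement_def]
        exact mul_mem (mul_mem (mul_mem haS hbS) (inv_mem haS)) (inv_mem hbS)
      refine H759.mem_preimageAlong.2 ⟨hab, ?_⟩
      have h1 : (⟨⁅a, b⁆, hab⟩ : S) = ⁅(⟨a, haS⟩ : S), (⟨b, hbS⟩ : S)⁆ := rfl
      rw [h1, map_commutatorElement]
      exact Subgroup.commutator_mem_commutator ha' hb'
  obtain ⟨n, hn⟩ := (Group.isSolvable_def S').1 inferInstance
  have h1 := key n
  rw [hn, Subgroup.map_bot] at h1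
  have h2 : preimageAlong θ ⊥ = Q := by
    ext x
    rw [H759.mem_preimageAlong]
    constructor
    · rintro ⟨hx, h⟩
      exact (hE.2.1 ⟨x, hx⟩).1 (Subgroup.mem_bot.1 h)
    · intro hx
      exact ⟨hE.1 hx, Subgroup.mem_bot.2 ((hE.2.1 ⟨x, hE.1 hx⟩).2 hx)⟩
  rwa [h2] at h1

/-- If `S/Q` is normal in the factor system modulo a normal subgroup, the system is constrained. -/
theorem isConstrained_of_factor [Finite S] {p : ℕ} [Fact p.Prime] (hS : IsPGroup p S) (hF : F.IsSaturated p)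
    (hQ : F.IsNormal Q) (hE : F.IsFactorSystem Q θ E) (hN : E.IsNormal S') : F.IsConstrained p :=
  H759.isConstrained_of_hasChain hS hF
    (hasChain_bot hS hQ (hasChain_preimage hS hF (H759.IsNormal.stronglyClosed hQ) hE hN))

end factor

section constrained

variable {Ω : Type u} [Group Ω] {S : Subgroup Ω} {F : FusionSystem S}

theorem normalizerIn_eq_of_stronglyClosed {Q : Subgroup Ω} (hQ : F.StronglyClosed Q) : normalizerIn S Q = S :=
  le_antisymm inf_le_left (le_inf le_rfl (H759.StronglyClosed.le_normalizer hQ))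

theorem isFullyNormalized_of_eq [Finite S] {Q : Subgroup Ω} (hQS : Q ≤ S) (hQ : normalizerIn S Q = S) :
    F.IsFullyNormalized Q := by
  refine ⟨hQS, fun R _ => ?_⟩
  rw [hQ]
  exact Subgroup.card_le_of_le inf_le_left

/-- Every map extends to `S`: then `S` is normal. -/
theorem isNormal_self [Finite S] (h : ∀ (P : Subgroup Ω) (φ : P →* Ω), φ ∈ F.Hom P →
    ∃ ψ ∈ F.Hom S, ∀ (x : Ω) (hx : x ∈ P) (hx' : x ∈ S), ψ ⟨x, hx'⟩ = φ ⟨x, hx⟩) : F.IsNormal S := by
  refine H759.isNormal_of_extends H759.StronglyClosed.top fun P φ hφ => ?_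
  have hP : P ≤ S := (F.le_of_mem hφ).1
  have hsup : P ⊔ S ≤ S := sup_le hP le_rfl
  obtain ⟨ψ, hψ, he⟩ := h P φ hφ
  refine ⟨ψ.comp (Subgroup.inclusion hsup), restrict_mem hψ hsup, fun x hx => ?_⟩
  exact he x x.2 (hsup hx)

/-- The extension argument: `Q` normal and centric, `Aut_S(Q)` normal in `Aut_F(Q)`. -/
theorem isNormal_self_of_sylow_normal [Finite S] {p : ℕ} [Fact p.Prime] (hS : IsPGroup p S) (hF : F.IsSaturated p)
    {Q : Subgroup Ω} (hQ : F.IsNormal Q) (hQc : F.IsCentric Q)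
    (hn : ∀ a ∈ F.autGroup Q, ∀ b ∈ autInducedBy S Q, a * b * a⁻¹ ∈ autInducedBy S Q) : F.IsNormal S := by
  have hQS : Q ≤ S := hQ.1
  have hfQ : Finite Q := finite_of_le hQS
  have hNS : normalizerIn S Q = S := normalizerIn_eq_of_stronglyClosed (H759.IsNormal.stronglyClosed hQ)
  have hrec : F.IsReceptive Q := isReceptive_of_isFullyNormalized hS hF (isFullyNormalized_of_eq hQS hNS)
  -- elements of `Aut_F(Q)` extend to `S`
  have hext : ∀ β ∈ F.autGroup Q, ∃ γ ∈ F.Hom S, ∀ (x : Ω) (hx : x ∈ Q), γ ⟨x, hQS hx⟩ = ((β ⟨x, hx⟩ : Q) : Ω) := by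
    intro β hβ
    have hβ' := (mem_autGroup_iff F hQS β).1 hβ
    have hrg : (Q.subtype.comp β.toMonoidHom).range = Q := by
      ext y
      constructor
      · rintro ⟨x, rfl⟩
        exact (β x).2
      · intro hy
        exact ⟨β.symm ⟨y, hy⟩, congrArg Subtype.val (β.apply_symm_apply (⟨y, hy⟩ : Q))⟩
    obtain ⟨ψ, hψ, hψe⟩ := hrec.2 Q _ hβ' hrg
    have hle : S ≤ extender S Q (Q.subtype.comp β.toMonoidHom) := by
      intro s hs
      have hsN : s ∈ Subgroup.normalizer (Q : Set Ω) := by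
        have : s ∈ normalizerIn S Q := by rw [hNS]; exact hs
        exact this.2
      rw [mem_extender_iff]
      refine ⟨hs, hsN, ?_⟩
      obtain ⟨c, hc⟩ := exists_conjAut hsN
      have hcS : c ∈ autInducedBy S Q := (mem_autInducedBy_iff S Q c).2 ⟨s, hs, hc⟩
      obtain ⟨t, ht, hte⟩ := (mem_autInducedBy_iff S Q _).1 (hn β hβ c hcS)
      refine ⟨t, ht, fun x hx => ?_⟩
      have h1 := hte (β x)
      rw [MulAut.mul_apply, MulAut.mul_apply, MulAut.inv_apply_self] at h1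
      have h2 : (⟨s * (x : Ω) * s⁻¹, hx⟩ : Q) = c x := Subtype.ext (hc x).symm
      change ((β ⟨s * (x : Ω) * s⁻¹, hx⟩ : Q) : Ω) = t * ((β x : Q) : Ω) * t⁻¹
      rw [h2, h1]
    refine ⟨ψ.comp (Subgroup.inclusion hle), restrict_mem hψ hle, fun x hx => ?_⟩
    exact hψe x hx (hle (hQS hx))
  refine isNormal_self fun P φ hφ => ?_
  have hP : P ≤ S := (F.le_of_mem hφ).1
  obtain ⟨ψ, hψ, h1, h2⟩ := nExt_of_isNormal hQ hφ
  have hQle : Q ≤ P ⊔ Q := le_sup_right
  have hψQ := restrict_mem hψ hQle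
  have hmaps : ∀ x : Q, (ψ.comp (Subgroup.inclusion hQle)) x ∈ Q := fun x => h2 x x.2 (hQle x.2)
  obtain ⟨β, hβ, hβe⟩ := exists_aut hψQ (range_eq_of_mapsTo hψQ hmaps)
  obtain ⟨γ, hγ, hγe⟩ := hext β hβ
  have hPQ : P ⊔ Q ≤ S := sup_le hP hQS
  have hγ' := restrict_mem hγ hPQ
  obtain ⟨z, hzQ, hzC, hz⟩ := exists_conj_of_agree_on_centric hS hF hQc hQle hγ' hψ (fun x hx => by
    have e1 := hγe x hx
    have e2 := hβe ⟨x, hx⟩
    change γ ⟨x, _⟩ = ψ ⟨x, _⟩
    rw [e1, e2]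
    rfl)
  have hzS : z ∈ S := hQS hzQ
  -- conjugation by `z` followed by `γ`
  have hconj : conjHom S z ∈ F.Hom S := F.conj_mem le_rfl hzS
  obtain ⟨χ, hχ, hχe⟩ := exists_comp hconj hγ (fun x => mul_mem (mul_mem hzS x.2) (inv_mem hzS))
  refine ⟨χ, hχ, fun x hx hx' => ?_⟩
  have hxPQ : x ∈ P ⊔ Q := (le_sup_left : P ≤ P ⊔ Q) hx
  have hzx : z * x * z⁻¹ ∈ P ⊔ Q := mul_mem (mul_mem (hQle hzQ) hxPQ) (inv_mem (hQle hzQ))
  have e1 := hz ⟨x, hxPQ⟩ hzx
  rw [← h1 x hx hxPQ, e1, hχe]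
  rfl

/-- **The constrained case.** -/
theorem isNormal_of_constrained [Finite S] (hCP : ConsGroup.ControlProp.{u}) {p r : ℕ} [Fact p.Prime] (hr : r.Prime)
    (hp : p ≠ 2) (hS : IsPGroup p S) (hF : F.IsSaturated p) {α : MulAut ↥S} (hαr : α ^ r = 1)
    (hfix : ∀ x : S, α x = x → x = 1) (hα : Pres F α) {Q : Subgroup Ω} (hQ : F.IsNormal Q) (hQc : F.IsCentric Q)
    (hQα : AInv α Q) (hrQ : ¬ r ∣ Nat.card (F.autGroup Q)) : F.IsNormal S := by
  have hQS : Q ≤ S := hQ.1
  have hfQ : Finite Q := finite_of_le hQS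
  have hfA : Finite (MulAut Q) := Finite.of_injective _ (DFunLike.coe_injective (F := MulAut Q))
  have hNS : normalizerIn S Q = S := normalizerIn_eq_of_stronglyClosed (H759.IsNormal.stronglyClosed hQ)
  have hfa : F.IsFullyAutomized p Q := isFullyAutomized_of_isFullyNormalized hS hF (isFullyNormalized_of_eq hQS hNS)
  obtain ⟨-, P, hP⟩ := hfa
  have hQp : IsPGroup p Q := hS.of_injective (Subgroup.inclusion hQS) (Subgroup.inclusion_injective _)
  set a₀ := res α hQS hQα with ha₀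
  have ha₀r : a₀ ^ r = 1 := res_pow_eq_one hQS hQα hαr
  have hαA : ∀ a, a ∈ F.autGroup Q ↔ a₀ * a * a₀⁻¹ ∈ F.autGroup Q := hα.conj_mem_iff hQS hQα
  have hfixQ : ∀ q : Q, a₀ q = q → q = 1 := by
    intro q hq
    have h1 : α ⟨q, hQS q.2⟩ = ⟨q, hQS q.2⟩ := Subtype.ext (congrArg (Subtype.val : Q → Ω) hq)
    have h2 := hfix _ h1
    exact Subtype.ext (congrArg (Subtype.val : S → Ω) h2)
  -- the action on `Aut_S(Q)`
  have hact : ∀ (s : S) (c : MulAut Q), (∀ x : Q, ((c x : Q) : Ω) = s * x * (s : Ω)⁻¹) →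
      ∀ x : Q, (((a₀ * c * a₀⁻¹) x : Q) : Ω) = (α s : S) * x * ((α s : S) : Ω)⁻¹ := by
    intro s c hc x
    obtain ⟨y, rfl⟩ : ∃ y, a₀ y = x := ⟨a₀⁻¹ x, MulAut.apply_inv_self _ _ _⟩
    rw [MulAut.mul_apply, MulAut.mul_apply, MulAut.inv_apply_self]
    have h1 : ((a₀ (c y) : Q) : Ω) = (α ⟨(c y : Q), hQS (c y).2⟩ : S) := rfl
    have h2 : ((a₀ y : Q) : Ω) = (α ⟨y, hQS y.2⟩ : S) := rfl
    have h3 : (⟨(c y : Q), hQS (c y).2⟩ : S) = s * ⟨y, hQS y.2⟩ * s⁻¹ := Subtype.ext (hc y)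
    rw [h1, h2, h3, map_mul, map_mul, map_inv]
    rfl
  have hmemP : ∀ a : F.autGroup Q, a ∈ (P : Subgroup (F.autGroup Q)) ↔
      ∃ s : S, ∀ x : Q, (((a : MulAut Q) x : Q) : Ω) = s * x * (s : Ω)⁻¹ := by
    intro a
    rw [hP, Subgroup.mem_subgroupOf, mem_autInducedBy_iff]
    exact ⟨fun ⟨g, hg, h⟩ => ⟨⟨g, hg⟩, h⟩, fun ⟨s, h⟩ => ⟨s, s.2, h⟩⟩
  have hPα : ∀ a ∈ (P : Subgroup (F.autGroup Q)), ConsGroup.conjA hαA a ∈ (P : Subgroup (F.autGroup Q)) := by
    intro a ha
    obtain ⟨s, hs⟩ := (hmemP a).1 ha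
    exact (hmemP _).2 ⟨α s, hact s a hs⟩
  -- `C_S(Q)` as a subgroup of `S`
  have hPfix : ∀ a ∈ (P : Subgroup (F.autGroup Q)), ConsGroup.conjA hαA a = a → a = 1 := by
    intro a ha hfa
    obtain ⟨s, hs⟩ := (hmemP a).1 ha
    have h1 := hact s a hs
    have h2 : (a₀ * (a : MulAut Q) * a₀⁻¹) = (a : MulAut Q) := congrArg Subtype.val hfa
    have h3 : ∀ x : Q, (α s : S) * (x : Ω) * ((α s : S) : Ω)⁻¹ = s * x * (s : Ω)⁻¹ := by
      intro x
      rw [← h1 x, h2, hs x]
    -- `s⁻¹ α(s)` centralizes `Q`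
    let N : Subgroup S := (Subgroup.centralizer (Q : Set Ω)).subgroupOf S
    have hN : ∀ n ∈ N, α n ∈ N := by
      intro n hn
      rw [Subgroup.mem_subgroupOf] at hn ⊢
      rw [Subgroup.mem_centralizer_iff] at hn ⊢
      intro x hx
      have hxS : x ∈ S := hQS hx
      obtain ⟨y, hy⟩ : ∃ y : S, α y = ⟨x, hxS⟩ := ⟨α⁻¹ ⟨x, hxS⟩, MulAut.apply_inv_self _ _ _⟩
      have hyQ : (y : Ω) ∈ Q := by
        rw [hQα y, hy]; exact hx
      have h4 := hn y hyQ
      have h5 : y * n = n * y := Subtype.ext h4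
      have h6 : α y * α n = α n * α y := by rw [← map_mul, h5, map_mul]
      rw [hy] at h6
      exact congrArg Subtype.val h6
    have hsN : s⁻¹ * α s ∈ N := by
      rw [Subgroup.mem_subgroupOf, Subgroup.mem_centralizer_iff]
      intro x hx
      have h4 := h3 ⟨x, hx⟩
      change x * ((s : Ω)⁻¹ * (α s : S)) = (s : Ω)⁻¹ * (α s : S) * x
      change (α s : S) * x * ((α s : S) : Ω)⁻¹ = s * x * (s : Ω)⁻¹ at h4
      rw [mul_inv_eq_iff_eq_mul] at h4
      rw [mul_assoc ((s : Ω)⁻¹), h4]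
      group
    have hs1 := mem_of_fpf hfix hN hsN
    rw [Subgroup.mem_subgroupOf, Subgroup.mem_centralizer_iff] at hs1
    apply Subtype.ext
    ext x
    rw [hs x]
    have h4 := hs1 x x.2
    rw [← h4]
    simp
  have hnorm := ConsGroup.normal_of_fixed_free hCP hr hp hQp ha₀r hfixQ hαA hrQ P hPα hPfix
  refine isNormal_self_of_sylow_normal hS hF hQ hQc fun a ha b hb => ?_
  have hbA : b ∈ F.autGroup Q := autInducedBy_le_autGroup F hQS hb
  have hbP : (⟨b, hbA⟩ : F.autGroup Q) ∈ (P : Subgroup (F.autGroup Q)) := by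
    rw [hP, Subgroup.mem_subgroupOf]; exact hb
  have h1 := hnorm.conj_mem _ hbP ⟨a, ha⟩
  rw [hP, Subgroup.mem_subgroupOf] at h1
  exact h1

end constrained

end Cfsg.Agent.H788.Fpf
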