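import Cfsg.Agent.H788.FpfA
import Cfsg.Agent.H788.FpfC
import Cfsg.Agent.H788.Elim
import Cfsg.Agent.H789.FusTorusB

/-!
# Fixed-point-free automorphisms of fusion systems, fourth part

The induction.
-/

set_option autoImplicit false

namespace Cfsg.Agent.H788.Fpf

open Cfsg Cfsg.FusionSystem Cfsg.Agent.H802 Cfsg.Agent.H771
open Cfsg.Agent.H789.FusTorus

universe u

/-- The hypotheses of the induction. -/
structure Good (p r : ℕ) {Ω : Type*} [Group Ω] {S : Subgroup Ω} (F : FusionSystem S) (α : MulAut ↥S) : Prop where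
  hS : IsPGroup p S
  hF : F.IsSaturated p
  hr : α ^ r = 1
  hfix : ∀ x : S, α x = x → x = 1
  pres : Pres F α
  hd : ∀ R : Subgroup Ω, R ≤ S → ¬ r ∣ Nat.card (F.autGroup R)

/-- The statement for `|S| < n`. -/
def Stmt (p r n : ℕ) : Prop :=
  ∀ (Ω : Type u) [Group Ω] (S : Subgroup Ω) [Finite S] (F : FusionSystem S) (α : MulAut ↥S), Good p r F α →
    Nat.card S < n → F.IsNormal S

section cases

variable {Ω : Type u} [Group Ω] {S : Subgroup Ω} [Finite S] {F : FusionSystem S} {α : MulAut ↥S}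
variable {p r : ℕ} [Fact p.Prime]

/-- The case of a nontrivial normal invariant subgroup. -/
theorem isNormal_of_normal (hCP : ConsGroup.ControlProp.{u}) (hr : r.Prime) (hp : p ≠ 2) (hG : Good p r F α)
    (ih : Stmt.{u} p r (Nat.card S)) {Q : Subgroup Ω} (hQ : F.IsNormal Q) (hQ1 : Q ≠ ⊥) (hQα : AInv α Q) :
    F.IsNormal S := by
  have hQs := H759.IsNormal.stronglyClosed hQ
  have hQS : Q ≤ S := hQ.1
  have hnorm : (Q.subgroupOf S).Normal := H759.normal_subgroupOf_of_stronglyClosed hQs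
  obtain ⟨E, hE⟩ := H759.exists_factorSystem (S' := (⊤ : Subgroup (S ⧸ Q.subgroupOf S)))
    (θ := QuotientGroup.mk' (Q.subgroupOf S)) hQs (fun s => H759.mk'_eq_one_iff s) H759.range_mk'
  have hNmap : (Q.subgroupOf S).map (α : S →* S) = Q.subgroupOf S := by
    ext y
    constructor
    · rintro ⟨x, hx, rfl⟩
      exact (hQα x).1 hx
    · intro hy
      refine ⟨α⁻¹ y, ?_, MulAut.apply_inv_self _ _ _⟩
      change ((α⁻¹ y : S) : Ω) ∈ Q
      rw [hQα, MulAut.apply_inv_self]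
      exact hy
  let β₀ : (S ⧸ Q.subgroupOf S) ≃* (S ⧸ Q.subgroupOf S) :=
    QuotientGroup.congr (Q.subgroupOf S) (Q.subgroupOf S) α hNmap
  let β : MulAut ↥(⊤ : Subgroup (S ⧸ Q.subgroupOf S)) := (Subgroup.topEquiv.trans β₀).trans Subgroup.topEquiv.symm
  have hβ : ∀ x : S, ((β ⟨QuotientGroup.mk' (Q.subgroupOf S) x, theta_mem hE x⟩ :
      (⊤ : Subgroup (S ⧸ Q.subgroupOf S))) : S ⧸ Q.subgroupOf S) = QuotientGroup.mk' (Q.subgroupOf S) (α x) :=
    fun x => rfl
  have hβn : ∀ (n : ℕ) (x : S), (((β ^ n) ⟨QuotientGroup.mk' (Q.subgroupOf S) x, theta_mem hE x⟩ :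
      (⊤ : Subgroup (S ⧸ Q.subgroupOf S))) : S ⧸ Q.subgroupOf S) = QuotientGroup.mk' (Q.subgroupOf S) ((α ^ n) x) := by
    intro n
    induction n with
    | zero => intro x; rfl
    | succ n ihn =>
      intro x
      rw [pow_succ', pow_succ', MulAut.mul_apply, MulAut.mul_apply]
      have e1 : (β ^ n) ⟨QuotientGroup.mk' (Q.subgroupOf S) x, theta_mem hE x⟩ =
          ⟨QuotientGroup.mk' (Q.subgroupOf S) ((α ^ n) x), theta_mem hE _⟩ := Subtype.ext (ihn x)
      rw [e1, hβ]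
  have hsurj : ∀ y : (⊤ : Subgroup (S ⧸ Q.subgroupOf S)), ∃ x : S,
      y = ⟨QuotientGroup.mk' (Q.subgroupOf S) x, theta_mem hE x⟩ := by
    intro y
    obtain ⟨x, hx⟩ := exists_theta hE y
    exact ⟨x, Subtype.ext hx.symm⟩
  have hGE : Good p r E β := by
    refine ⟨?_, H759.isSaturated_factor hG.hS hG.hF hQs hE, ?_, ?_, pres_factor hQs hE hG.pres hβ,
      not_dvd_factor hE hr hG.hd⟩
    · refine hG.hS.of_surjective ((QuotientGroup.mk' (Q.subgroupOf S)).codRestrict ⊤ (theta_mem hE)) ?_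
      intro y
      obtain ⟨x, rfl⟩ := hsurj y
      exact ⟨x, rfl⟩
    · ext y
      obtain ⟨x, rfl⟩ := hsurj y
      rw [hβn, hG.hr]
      rfl
    · intro y hy
      obtain ⟨x, rfl⟩ := hsurj y
      have h1 : QuotientGroup.mk' (Q.subgroupOf S) (α x) = QuotientGroup.mk' (Q.subgroupOf S) x :=
        congrArg Subtype.val hy
      have h2 : x⁻¹ * α x ∈ Q.subgroupOf S := by
        have : QuotientGroup.mk' (Q.subgroupOf S) (x⁻¹ * α x) = 1 := by
          rw [map_mul, map_inv, h1, inv_mul_cancel]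
        exact (QuotientGroup.eq_one_iff _).1 this
      have h3 : x ∈ Q.subgroupOf S := mem_of_fpf hG.hfix (fun n hn => (hQα n).1 hn) h2
      apply Subtype.ext
      exact (QuotientGroup.eq_one_iff _).2 h3
  have hfin : Finite (⊤ : Subgroup (S ⧸ Q.subgroupOf S)) := inferInstance
  have hcard : Nat.card (⊤ : Subgroup (S ⧸ Q.subgroupOf S)) < Nat.card S := by
    have h1 : Nat.card (⊤ : Subgroup (S ⧸ Q.subgroupOf S)) = Nat.card (S ⧸ Q.subgroupOf S) :=
      Nat.card_congr Subgroup.topEquiv.toEquiv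
    rw [h1, Subgroup.card_eq_card_quotient_mul_card_subgroup (Q.subgroupOf S)]
    have h2 : 1 < Nat.card (Q.subgroupOf S) := by
      rw [Subgroup.one_lt_card_iff_ne_bot]
      intro h
      rw [Subgroup.subgroupOf_eq_bot] at h
      apply hQ1
      rw [eq_bot_iff]
      have := h.le_bot
      exact (le_inf le_rfl hQS).trans this
    have h3 : 0 < Nat.card (S ⧸ Q.subgroupOf S) := Nat.card_pos
    nlinarith
  have hEN : E.IsNormal ⊤ := ih _ ⊤ E β hGE hcard
  obtain ⟨-, Q', hQ', hQ'c⟩ := isConstrained_of_factor hG.hS hG.hF hQ hE hEN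
  have hcore : F.IsNormal F.core := H759.isNormal_core
  have hcc : F.IsCentric F.core := isCentric_of_le hQ'c (H759.IsNormal.le_core hQ') hcore.1
  exact isNormal_of_constrained hCP hr hp hG.hS hG.hF hG.hr hG.hfix hG.pres hcore hcc (aInv_core hG.pres)
    (hG.hd _ hcore.1)

/-- The centre of `S`, as a subgroup of the ambient group. -/
theorem centre_aInv : AInv α (S ⊓ Subgroup.centralizer (S : Set Ω)) := by
  have key : ∀ β : MulAut ↥S, ∀ x : S, (x : Ω) ∈ S ⊓ Subgroup.centralizer (S : Set Ω) →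
      ((β x : S) : Ω) ∈ S ⊓ Subgroup.centralizer (S : Set Ω) := by
    intro β x hx
    refine ⟨(β x).2, Subgroup.mem_centralizer_iff.2 fun y hy => ?_⟩
    have h1 := Subgroup.mem_centralizer_iff.1 hx.2 _ (β⁻¹ ⟨y, hy⟩).2
    have h2 : β⁻¹ ⟨y, hy⟩ * x = x * β⁻¹ ⟨y, hy⟩ := Subtype.ext h1
    have h3 := congrArg β h2
    rw [map_mul, map_mul, MulAut.apply_inv_self] at h3
    exact congrArg Subtype.val h3
  intro x
  refine ⟨key α x, fun hx => ?_⟩
  have := key α⁻¹ (α x) hx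
  rwa [MulAut.inv_apply_self] at this

theorem thompson_aInv : AInv α (thompsonSubgroupAOf S) := by
  refine aInv_of_img ?_
  have e1 : (thompsonSubgroupAOf (⊤ : Subgroup S)).map S.subtype = thompsonSubgroupAOf S := by
    rw [Cfsg.Agent.PLocal.ThompsonJA.map_thompsonSubgroupAOf S.subtype S.subtype_injective]
    congr 1
    rw [← MonoidHom.range_eq_map, Subgroup.range_subtype]
  have e2 : (thompsonSubgroupAOf (⊤ : Subgroup S)).map (S.subtype.comp α.toMonoidHom) = thompsonSubgroupAOf S := by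
    rw [Cfsg.Agent.PLocal.ThompsonJA.map_thompsonSubgroupAOf (S.subtype.comp α.toMonoidHom)
      (S.subtype_injective.comp α.injective)]
    congr 1
    rw [← MonoidHom.range_eq_map]
    ext y
    constructor
    · rintro ⟨x, rfl⟩
      exact (α x).2
    · intro hy
      exact ⟨α⁻¹ ⟨y, hy⟩, congrArg Subtype.val (MulAut.apply_inv_self S α ⟨y, hy⟩)⟩
  have e3 : (thompsonSubgroupAOf S).subgroupOf S = thompsonSubgroupAOf (⊤ : Subgroup S) := by
    conv_lhs => rw [← e1]
    exact Subgroup.comap_map_eq_self_of_injective S.subtype_injective _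
  unfold img
  rw [e3, e2]

/-- The order of `Aut_F(T)` for central `T`. -/
theorem coprime_autGroup_of_central (hS : IsPGroup p S) (hF : F.IsSaturated p) {T : Subgroup Ω} (hTS : T ≤ S)
    (hTc : T ≤ Subgroup.centralizer (S : Set Ω)) : (Nat.card (F.autGroup T)).Coprime p := by
  have hfT : Finite T := finite_of_le hTS
  have hfA : Finite (MulAut T) := Finite.of_injective _ (DFunLike.coe_injective (F := MulAut T))
  have hC : centralizerIn S T = S := by
    refine le_antisymm inf_le_left (le_inf le_rfl fun s hs => ?_)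
    refine Subgroup.mem_centralizer_iff.2 fun t ht => ?_
    exact (Subgroup.mem_centralizer_iff.1 (hTc ht) s hs).symm
  have hN : normalizerIn S T = S :=
    le_antisymm inf_le_left (hC.symm.le.trans (centralizerIn_le_normalizerIn S T))
  have hfa := isFullyAutomized_of_isFullyNormalized hS hF (isFullyNormalized_of_eq (F := F) hTS hN)
  rw [isFullyAutomized_iff_card hS hTS] at hfa
  have h1 := card_autInducedBy_mul S T
  rw [hC, hN] at h1
  have hpos : 0 < Nat.card S := Nat.card_pos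
  have h2 : Nat.card (autInducedBy S T) = 1 := by
    have : Nat.card (autInducedBy S T) * Nat.card S = 1 * Nat.card S := by rw [h1, one_mul]
    exact Nat.eq_of_mul_eq_mul_right hpos this
  rw [h2] at hfa
  have hp : p.Prime := Fact.out
  have h3 : (Nat.card (F.autGroup T)).factorization p = 0 := by
    by_contra h
    have := Nat.one_lt_pow h hp.one_lt
    omega
  rw [Nat.coprime_comm, hp.coprime_iff_not_dvd]
  intro hd
  have := (hp.dvd_iff_one_le_factorization (Nat.card_pos.ne')).1 hd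
  omega

/-- The general case. -/
theorem isNormal_of_good (hCP : ConsGroup.ControlProp.{u}) (hr : r.Prime) (hp : p ≠ 2) (hG : Good p r F α)
    (ih : Stmt.{u} p r (Nat.card S)) : F.IsNormal S := by
  by_cases hS1 : S = ⊥
  · have h2 : F.IsNormal ⊥ := H759.isNormal_bot
    rw [hS1.symm] at h2
    exact h2
  set T : Subgroup Ω := S ⊓ Subgroup.centralizer (S : Set Ω) with hT
  have hTS : T ≤ S := inf_le_left
  have hTc : T ≤ Subgroup.centralizer (S : Set Ω) := inf_le_right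
  have hfT : Finite T := finite_of_le hTS
  have hT1 : T ≠ ⊥ := by
    have hnt : Nontrivial S := (Subgroup.nontrivial_iff_ne_bot S).2 hS1
    have hc := hG.hS.center_nontrivial
    obtain ⟨⟨z, hz⟩, hz1⟩ := exists_ne (1 : Subgroup.center S)
    intro h
    have hzT : (z : Ω) ∈ T := by
      refine ⟨z.2, Subgroup.mem_centralizer_iff.2 fun y hy => ?_⟩
      exact congrArg Subtype.val (Subgroup.mem_center_iff.1 hz ⟨y, hy⟩)
    rw [h, Subgroup.mem_bot] at hzT
    apply hz1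
    apply Subtype.ext
    exact Subtype.ext hzT
  have hTα : AInv α T := centre_aInv
  -- the normalizer system of `J(S)`
  set J := thompsonSubgroupAOf S with hJdef
  have hJS : J ≤ S := Cfsg.Agent.PLocal.ThompsonJA.thompsonSubgroupAOf_le S
  have hJα : AInv α J := thompson_aInv
  have hTJ : T ≤ J := le_thompson hTS hTc
  have hJ1 : J ≠ ⊥ := fun h => hT1 (le_bot_iff.1 (hTJ.trans h.le))
  have hNJ : normalizerIn S J = S :=
    le_antisymm inf_le_left (le_inf le_rfl ((Subgroup.le_normalizer).trans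
      (Cfsg.Agent.PLocal.ThompsonJA.normalizer_le_normalizer_thompsonSubgroupAOf S)))
  have hfJ : Finite J := finite_of_le hJS
  let E : FusionSystem S := castSystem hNJ (H781.normSys F J hJS)
  have hEhom : ∀ P, E.Hom P = F.normalizerHom J P := fun P => castSystem_hom hNJ _ P
  have hEmem : ∀ (P : Subgroup Ω) (φ : P →* Ω), φ ∈ E.Hom P ↔ NExt F J P φ := by
    intro P φ
    rw [hEhom, mem_normalizerHom_iff, hNJ]
    exact ⟨fun h => h.2.2, fun h => ⟨(F.le_of_mem (nExt_mem h)).1, (F.le_of_mem (nExt_mem h)).2, h⟩⟩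
  have hEF : ∀ (P : Subgroup Ω) (φ : P →* Ω), φ ∈ E.Hom P → φ ∈ F.Hom P := fun P φ h => nExt_mem ((hEmem P φ).1 h)
  have hJn : F.IsFullyNormalized J := isFullyNormalized_of_eq hJS hNJ
  have hEsat : E.IsSaturated p :=
    isSaturated_cast hNJ (normalizerSystem_isSaturated hG.hS hG.hF hJn (H781.isNormalizerSystem_normSys F J hJS))
  have hEJ : E.IsNormal J := by
    refine isNormal_of_nExt hJS fun P φ hφ => ?_
    obtain ⟨ψ, hψ, h1, h2⟩ := (hEmem P φ).1 hφ
    have hle : (P ⊔ J) ⊔ J ≤ P ⊔ J := sup_le le_rfl le_sup_right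
    refine ⟨ψ, (hEmem _ ψ).2 ⟨ψ.comp (Subgroup.inclusion hle), restrict_mem hψ hle, fun x hx hx' => rfl,
      fun y hy hy' => h2 y hy (hle hy')⟩, h1, h2⟩
  have hGE : Good p r E α := by
    refine ⟨hG.hS, hEsat, hG.hr, hG.hfix, ?_, ?_⟩
    · intro P Q φ hφ hQ hPQ
      have hP : P ≤ S := (E.le_of_mem hφ).1
      obtain ⟨ψ, hψ, h1, h2⟩ := (hEmem P φ).1 hφ
      have hQi : Q = img α P := eq_img hQ hPQ
      have hR' : ∀ x : S, (x : Ω) ∈ P ⊔ J ↔ ((α x : S) : Ω) ∈ Q ⊔ J := by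
        intro x
        have e : Q ⊔ J = img α (P ⊔ J) := by
          rw [img_sup hP hJS, hJα.img_eq hJS, hQi]
        rw [e]
        exact apply_mem_img.symm
      obtain ⟨ψ', hψ', h3⟩ := hG.pres (P ⊔ J) (Q ⊔ J) ψ hψ (sup_le hQ hJS) hR'
      have hle : Q ≤ Q ⊔ J := le_sup_left
      have hψJ : ∀ (y : Ω) (_ : y ∈ J) (hy' : y ∈ Q ⊔ J), ψ' ⟨y, hy'⟩ ∈ J := by
        intro y hy hy'
        obtain ⟨y₀, hy₀⟩ : ∃ y₀ : S, α y₀ = ⟨y, hJS hy⟩ := ⟨α⁻¹ ⟨y, hJS hy⟩, MulAut.apply_inv_self _ _ _⟩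
        have hy₁ : (y₀ : Ω) ∈ J := by rw [hJα y₀, hy₀]; exact hy
        have hy₂ : (y₀ : Ω) ∈ P ⊔ J := (le_sup_right : J ≤ P ⊔ J) hy₁
        have hψS : ψ ⟨y₀, hy₂⟩ ∈ S := (F.le_of_mem hψ).2 _
        have e1 := h3 y₀ hy₂ ((hR' y₀).1 hy₂) hψS
        have e2 : ψ' ⟨(α y₀ : S), (hR' y₀).1 hy₂⟩ = ψ' ⟨y, hy'⟩ :=
          congrArg ψ' (Subtype.ext (congrArg (Subtype.val : S → Ω) hy₀))
        rw [← e2, e1]
        exact (hJα _).1 (h2 y₀ hy₁ hy₂)
      refine ⟨ψ'.comp (Subgroup.inclusion hle), (hEmem Q _).2 ⟨ψ', hψ', fun x hx hx' => rfl, hψJ⟩, ?_⟩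
      intro x hx hx' hy
      have hx₂ : (x : Ω) ∈ P ⊔ J := (le_sup_left : P ≤ P ⊔ J) hx
      have hψS : ψ ⟨x, hx₂⟩ ∈ S := (F.le_of_mem hψ).2 _
      have e1 := h3 x hx₂ ((hR' x).1 hx₂) hψS
      have e2 : (⟨ψ ⟨x, hx₂⟩, hψS⟩ : S) = ⟨φ ⟨x, hx⟩, hy⟩ := Subtype.ext (h1 x hx hx₂)
      change ψ' ⟨(α x : S), _⟩ = _
      rw [e1, e2]
    · intro R hR hd
      refine hG.hd R hR (hd.trans (Subgroup.card_dvd_of_le ?_))
      exact Subgroup.closure_mono fun a ha => hEF R _ ha
  have hES : E.IsNormal S := isNormal_of_normal hCP hr hp hGE ih hEJ hJ1 hJα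
  -- `Z(S)` is fixed by the maps of `J`
  have hfixJ : Fixes F T J := by
    intro φ hφ hφJ x hx hxT
    have hφE : φ ∈ E.Hom J := by
      refine (hEmem J φ).2 ⟨φ.comp (Subgroup.inclusion (sup_le le_rfl le_rfl)), restrict_mem hφ _, fun x hx hx' => rfl,
        fun y hy hy' => hφJ _⟩
    obtain ⟨ψ, hψ, h1, h2⟩ := nExt_of_isNormal hES hφE
    have hSle : S ≤ J ⊔ S := le_sup_right
    have hχ := restrict_mem hψ hSle
    have hχr : (ψ.comp (Subgroup.inclusion hSle)).range = S :=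
      range_eq_of_mapsTo hχ fun x => (E.le_of_mem hψ).2 _
    have hxJS : x ∈ J ⊔ S := hSle (hJS hx)
    rw [← h1 x hx hxJS]
    refine ⟨(E.le_of_mem hψ).2 _, Subgroup.mem_centralizer_iff.2 fun y hy => ?_⟩
    have hy' : y ∈ S := hy
    rw [← hχr] at hy'
    obtain ⟨z, rfl⟩ := hy'
    have e1 : ψ ⟨x, hxJS⟩ = (ψ.comp (Subgroup.inclusion hSle)) ⟨x, hJS hx⟩ := rfl
    rw [e1, ← map_mul, ← map_mul]
    congr 1
    apply Subtype.ext
    exact Subgroup.mem_centralizer_iff.1 hxT.2 z z.2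
  -- `Z(S)` is weakly closed
  have hw : F.WeaklyClosed T := by
    by_contra hw
    obtain ⟨X, hXA, hX1, hXc, -, htr⟩ := exists_torus hG.hS hG.hF hp hTS hTc hfixJ hw
    letI : CommGroup T :=
      { (inferInstance : Group T) with
        mul_comm := fun a b => Subtype.ext ((Subgroup.mem_centralizer_iff.1 (hTc b.2) a (hTS a.2))) }
    have hctx : Elim.Ctx p r (F.autGroup T) (res α hTS hTα) := by
      refine ⟨Fact.out, hp, hr, hG.hS.of_injective (Subgroup.inclusion hTS) (Subgroup.inclusion_injective _),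
        coprime_autGroup_of_central hG.hS hG.hF hTS hTc, hG.hd T hTS, res_pow_eq_one hTS hTα hG.hr,
        fun a ha => hG.pres.conj_mem hTS hTα ha, ?_⟩
      intro q hq
      have h1 : α ⟨q, hTS q.2⟩ = ⟨q, hTS q.2⟩ := Subtype.ext (congrArg (Subtype.val : T → Ω) hq)
      have h2 := hG.hfix _ h1
      exact Subtype.ext (congrArg (Subtype.val : S → Ω) h2)
    exact hX1 (hctx.elim hXA hXc htr)
  -- so it is normal
  have hTn : F.IsNormal T := by
    refine isNormal_of_nExt hTS fun P φ hφ => ?_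
    refine nExt_of_fixes hG.hS hG.hF hTS hTc 0 (fun H hTH hHS _ => ?_) P φ hφ (Nat.zero_le _)
    intro χ hχ hχH x hx hxT
    have h1 := hw.2 _ (restrict_mem hχ hTH)
    rw [← h1]
    exact ⟨⟨x, hxT⟩, rfl⟩
  exact isNormal_of_normal hCP hr hp hG ih hTn hT1 hTα

end cases

theorem stmt_all (hCP : ConsGroup.ControlProp.{u}) {p r : ℕ} [Fact p.Prime] (hr : r.Prime) (hp : p ≠ 2) (n : ℕ) :
    Stmt.{u} p r n := by
  induction n with
  | zero => intro Ω _ S _ F α _ h; exact absurd h (Nat.not_lt_zero _)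
  | succ n ih =>
    intro Ω _ S _ F α hG h
    refine isNormal_of_good hCP hr hp hG ?_
    intro Ω' _ S' _ F' α' hG' h'
    exact ih Ω' S' F' α' hG' (by omega)

/-- S5277, from S1928. -/
theorem main (hCP : ConsGroup.ControlProp.{u}) {Ω : Type u} [Group Ω] {S : Subgroup Ω} [Finite S] (p : ℕ)
    [Fact p.Prime] (hS : IsPGroup p ↥S) (F : Cfsg.FusionSystem S) (hF : F.IsSaturated p) (hp : p ≠ 2) (α : ↥S ≃* ↥S)
    (hfix : ∀ x : ↥S, α x = x → x = 1) (hmor : F.IsMorphism F (S.subtype.comp α.toMonoidHom)) (r : ℕ) (hr : r.Prime)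
    (hord : orderOf α = r)
    (hcr : ∀ R : Subgroup Ω, F.IsCentric R → F.IsRadical p R → ¬ r ∣ Nat.card ↥(F.autGroup R)) : F.IsNormal S := by
  have hG : Good p r F (α : MulAut ↥S) := by
    refine ⟨hS, hF, ?_, hfix, pres_of_isMorphism hmor, not_dvd_all hS hF hr hcr⟩
    rw [← hord]
    exact pow_orderOf_eq_one _
  exact stmt_all hCP hr hp (Nat.card S + 1) Ω S F α hG (Nat.lt_succ_self _)

end Cfsg.Agent.H788.Fpf
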