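import Cfsg.Agent.H263.FF.OddNat

/-!
# The diagonal torus in a `p`-minimal group with an FF-module, odd `p`

In the situation of `H263.FF.OddNat.Out` (`X = (L₁ × ⋯ × L_r) T`, `L_i ≅ SL₂(q)`, `[V, L_i]` natural) there is an element `x` of
`N_X(T)` of order prime to `p` that acts on `C_V(T)` like a generator of the multiplicative group of a field: its powers permute
transitively the non-zero elements of `[W, x]` for every `x`-invariant `W ≤ C_V(T)`.
-/

set_option autoImplicit false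
set_option linter.unusedSectionVars false

namespace Cfsg.Agent.H788.NatTor

open Cfsg.Agent.H263.FF.Basic Cfsg.Agent.H263.FF.Setup Cfsg.Agent.H263.FF.Odd Cfsg.Agent.H263.FF.OddNat

section general

variable {X : Type*} [Group X] {V : Type*} [AddCommGroup V] [DistribMulAction X V] {r : ℕ} {L : Fin r → Subgroup X}
  {N : Fin r → AddSubgroup V}

/-- the product of the `k i` over a list of indices -/
def pr (k : Fin r → X) (l : List (Fin r)) : X := (l.map k).prod

theorem pr_smul_fix {k : Fin r → X} {v : V} (hv : ∀ i, k i • v = v) (l : List (Fin r)) : pr k l • v = v := by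
  induction l with
  | nil => simp [pr]
  | cons a l ih =>
    have : pr k (a :: l) = k a * pr k l := by simp [pr]
    rw [this, mul_smul, ih, hv]

theorem pr_smul {k : Fin r → X} {i : Fin r} {W : AddSubgroup V} (hW : ∀ w ∈ W, k i • w ∈ W)
    (hk : ∀ j, j ≠ i → ∀ w ∈ W, k j • w = w) {v : V} (hv : v ∈ W) (l : List (Fin r)) (hl : l.Nodup) :
    pr k l • v = if i ∈ l then k i • v else v := by
  induction l with
  | nil => simp [pr]
  | cons a l ih =>
    have e : pr k (a :: l) = k a * pr k l := by simp [pr]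
    rw [List.nodup_cons] at hl
    rw [e, mul_smul, ih hl.2]
    by_cases hai : a = i
    · subst hai
      rw [if_neg hl.1, if_pos (List.mem_cons_self)]
    · by_cases hil : i ∈ l
      · rw [if_pos hil, if_pos (List.mem_cons_of_mem _ hil)]
        exact hk a hai _ (hW v hv)
      · rw [if_neg hil, if_neg]
        · exact hk a hai v hv
        · intro h
          rcases List.mem_cons.1 h with h | h
          · exact hai h.symm
          · exact hil h

theorem commute_pr {a : X} {k : Fin r → X} (h : ∀ i, a * k i = k i * a) (l : List (Fin r)) : a * pr k l = pr k l * a := by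
  induction l with
  | nil => simp [pr]
  | cons b l ih =>
    have : pr k (b :: l) = k b * pr k l := by simp [pr]
    rw [this, ← mul_assoc, h, mul_assoc, ih, mul_assoc]

/-- A fixed vector of the form `x f - f` is trivial if the order of `x` is prime to `p`. -/
theorem eq_zero_of_fixed {p n : ℕ} {x : X} (hn : n.Coprime p) (hx : x ^ n = 1) {f : V}
    (hp : p • (x • f - f) = 0) (hd : x • (x • f - f) = x • f - f) : x • f - f = 0 := by
  have h1 : ∀ m : ℕ, x ^ m • f - f = m • (x • f - f) := by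
    intro m
    induction m with
    | zero => simp
    | succ m ih =>
      have h3 : x ^ m • (x • f - f) = x • f - f := by
        clear ih
        induction m with
        | zero => simp
        | succ m ih => rw [pow_succ', mul_smul, ih, hd]
      have h4 : x ^ (m + 1) • f = x ^ m • (x • f - f) + x ^ m • f := by
        rw [← smul_add, sub_add_cancel, pow_succ, mul_smul]
      rw [h4, h3, succ_nsmul, ← ih]
      abel
  have h2 := h1 n
  rw [hx, one_smul, sub_self] at h2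
  have h5 : addOrderOf (x • f - f) ∣ Nat.gcd n p :=
    Nat.dvd_gcd (addOrderOf_dvd_of_nsmul_eq_zero h2.symm) (addOrderOf_dvd_of_nsmul_eq_zero hp)
  rw [hn.gcd_eq_one, Nat.dvd_one, AddMonoid.addOrderOf_eq_one_iff] at h5
  exact h5

theorem pr_mem {k : Fin r → X} {H : Subgroup X} (h : ∀ i, k i ∈ H) (l : List (Fin r)) : pr k l ∈ H := by
  apply Subgroup.list_prod_mem
  intro x hx
  obtain ⟨i, -, rfl⟩ := List.mem_map.1 hx
  exact h i

end general

variable {p : ℕ} [hp : Fact p.Prime]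
variable {X : Type*} [Group X] [Finite X] {V : Type*} [AddCommGroup V] [Finite V] [DistribMulAction X V]
variable {pt : Sylow p X → Subgroup X} {𝒟 : Set (Subgroup X)}
variable {T : Sylow p X} {r : ℕ} {A L : Fin r → Subgroup X} {z : Fin r → X}

/-- conjugation by an element of `T` -/
def Cj (A L : Fin r → Subgroup X) (z : Fin r → X) (t : X) (i j : Fin r) : Prop :=
  cj t (A i) = A j ∧ cj t (L i) = L j ∧ t * z i * t⁻¹ = z j

theorem smul_ng {t : X} {z z' : X} (h : t * z * t⁻¹ = z') {v : V} (hv : v ∈ ng V z) : t • v ∈ ng V z' := by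
  rw [mem_ng] at hv ⊢
  rw [← h, mul_smul, mul_smul, inv_smul_smul, hv, smul_neg]

theorem Cj.inv {t : X} {i j : Fin r} (h : Cj A L z t i j) : Cj A L z t⁻¹ j i := by
  obtain ⟨h1, h2, h3⟩ := h
  refine ⟨by rw [← h1, cj_inv_cj], by rw [← h2, cj_inv_cj], by rw [← h3]; group⟩

theorem Cj.mul {s t : X} {i j k : Fin r} (h : Cj A L z t i j) (h' : Cj A L z s j k) : Cj A L z (s * t) i k := by
  obtain ⟨h1, h2, h3⟩ := h
  obtain ⟨h4, h5, h6⟩ := h'
  refine ⟨by rw [← cj_cj, h1, h4], by rw [← cj_cj, h2, h5], by rw [← h6, ← h3]; group⟩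

/-- the diagonal matrix -/
def dgm {F : Type} [Field F] (l : Fˣ) : Matrix.SpecialLinearGroup (Fin 2) F :=
  ⟨!![(l : F), 0; 0, ((l⁻¹ : Fˣ) : F)], by simp [Matrix.det_fin_two]⟩

theorem dgm_val {F : Type} [Field F] (l : Fˣ) : (dgm l).1 = !![(l : F), 0; 0, ((l⁻¹ : Fˣ) : F)] := rfl

theorem dgm_mul {F : Type} [Field F] (l m : Fˣ) : dgm (l * m) = dgm l * dgm m := by
  apply Subtype.ext
  rw [Matrix.SpecialLinearGroup.coe_mul, dgm_val, dgm_val, dgm_val]
  ext i j
  fin_cases i <;> fin_cases j <;> simp [Matrix.mul_apply, Fin.sum_univ_two, mul_comm]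

theorem dgm_one {F : Type} [Field F] : dgm (1 : Fˣ) = 1 := by
  apply Subtype.ext
  rw [Matrix.SpecialLinearGroup.coe_one, dgm_val]
  ext i j
  fin_cases i <;> fin_cases j <;> simp

/-- the torus element -/
noncomputable def torus {F : Type} [Field F] {L : Subgroup X} (ρ : ↥L ≃* Matrix.SpecialLinearGroup (Fin 2) F) (l : Fˣ) : ↥L :=
  ρ.symm (dgm l)

theorem torus_mul {F : Type} [Field F] {L : Subgroup X} (ρ : ↥L ≃* Matrix.SpecialLinearGroup (Fin 2) F) (l m : Fˣ) :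
    torus ρ (l * m) = torus ρ l * torus ρ m := by
  rw [torus, torus, torus, ← map_mul, dgm_mul]

theorem torus_one {F : Type} [Field F] {L : Subgroup X} (ρ : ↥L ≃* Matrix.SpecialLinearGroup (Fin 2) F) :
    torus ρ 1 = 1 := by
  rw [torus, dgm_one, map_one]

theorem torus_pow {F : Type} [Field F] {L : Subgroup X} (ρ : ↥L ≃* Matrix.SpecialLinearGroup (Fin 2) F) (l : Fˣ) (n : ℕ) :
    torus ρ (l ^ n) = torus ρ l ^ n := by
  induction n with
  | zero => rw [pow_zero, pow_zero, torus_one]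
  | succ n ih => rw [pow_succ, torus_mul, ih, pow_succ]

/-- **The diagonal torus.** -/
theorem exists_torus (hp2 : p ≠ 2) (h2 : ∀ v : V, p • v = 0) (hf : ∀ x : X, (∀ v : V, x • v = v) → x = 1)
    (hsup : (⨆ i, L i) ⊔ (T : Subgroup X) = ⊤) (o : Out p V pt 𝒟 T r A L z) :
    ∃ x : X, (∀ t ∈ T, x⁻¹ * t * x ∈ T) ∧ (∃ n : ℕ, n ≠ 0 ∧ n.Coprime p ∧ x ^ n = 1) ∧
      ∀ W : AddSubgroup V, W ≤ fx V (T : Subgroup X) → (∀ w ∈ W, x • w ∈ W) → ¬ W ≤ fx V (⊤ : Subgroup X) →
        (∃ w ∈ W, x • w ≠ w) ∧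
        ∀ w ∈ W, ∀ w' ∈ W, x • w ≠ w → x • w' ≠ w' → ∃ k : ℕ, x ^ k • (x • w - w) = x • w' - w' := by
  classical
  let i₀ : Fin r := ⟨0, o.pos⟩
  obtain ⟨F, _, _, hFc, ρ, e, hnat, hfx⟩ := o.nat i₀
  -- the stabiliser of the index in `T`
  let S₀ : Set X := {t | t ∈ T ∧ Cj A L z t i₀ i₀}
  let Y₀ : AddSubgroup V :=
    { carrier := {v | v ∈ ng V (z i₀) ∧ ∀ t ∈ S₀, t • v = v}
      zero_mem' := ⟨zero_mem _, fun t _ => smul_zero t⟩
      add_mem' := fun {a b} ha hb => ⟨add_mem ha.1 hb.1, fun t ht => by rw [smul_add, ha.2 t ht, hb.2 t ht]⟩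
      neg_mem' := fun {a} ha => ⟨neg_mem ha.1, fun t ht => by rw [smul_neg, ha.2 t ht]⟩ }
  have hA₀ : ∀ a ∈ A i₀, a ∈ S₀ := by
    intro a ha
    refine ⟨o.le i₀ ha, cj_eq_self_of_mem ha, cj_eq_self_of_mem (o.AL i₀ ha), ?_⟩
    rw [← o.zc i₀ a (o.AL i₀ ha), mul_inv_cancel_right]
  have hYA : ∀ v ∈ Y₀, v ∈ fx V (A i₀) := fun v hv a ha => hv.2 a (hA₀ a ha)
  have hS₀inv : ∀ t ∈ S₀, t⁻¹ ∈ S₀ := fun t ht => ⟨T.inv_mem ht.1, ht.2.inv⟩
  -- elements of `L` act on `ng`
  have hact : ∀ (l : ↥(L i₀)) (v : V) (hv : v ∈ ng V (z i₀)), ∃ hv' : (l : X) • v ∈ ng V (z i₀),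
      e ⟨(l : X) • v, hv'⟩ = (ρ l).1.mulVec (e ⟨v, hv⟩) := fun l v hv =>
    ⟨hnat.inv l l.2 v hv, hnat.act l ⟨v, hv⟩ ⟨_, hnat.inv l l.2 v hv⟩ rfl⟩
  have hcoord : ∀ (v : V) (hv : v ∈ Y₀), e ⟨v, hv.1⟩ 1 = 0 := fun v hv => (hfx ⟨v, hv.1⟩).1 (hYA v hv)
  -- equality in `ng`
  have heq : ∀ (v w : V) (hv : v ∈ ng V (z i₀)) (hw : w ∈ ng V (z i₀)), e ⟨v, hv⟩ 0 = e ⟨w, hw⟩ 0 →
      e ⟨v, hv⟩ 1 = e ⟨w, hw⟩ 1 → v = w := by
    intro v w hv hw h0 h1
    have : e ⟨v, hv⟩ = e ⟨w, hw⟩ := by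
      funext i; fin_cases i
      · exact h0
      · exact h1
    exact congrArg Subtype.val (e.injective this)
  have hzero : ∀ (v : V) (hv : v ∈ ng V (z i₀)), e ⟨v, hv⟩ 0 = 0 → e ⟨v, hv⟩ 1 = 0 → v = 0 := by
    intro v hv h0 h1
    have e0 : e ⟨0, zero_mem _⟩ = 0 := map_zero e
    exact heq v 0 hv (zero_mem _) (by rw [e0, h0]; rfl) (by rw [e0, h1]; rfl)
  -- the torus
  have htor : ∀ (l : Fˣ) (v : V) (hv : v ∈ ng V (z i₀)), ∃ hv' : (torus ρ l : X) • v ∈ ng V (z i₀),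
      e ⟨(torus ρ l : X) • v, hv'⟩ 0 = l * e ⟨v, hv⟩ 0 ∧ e ⟨(torus ρ l : X) • v, hv'⟩ 1 = (l⁻¹ : Fˣ) * e ⟨v, hv⟩ 1 := by
    intro l v hv
    obtain ⟨hv', h⟩ := hact (torus ρ l) v hv
    refine ⟨hv', ?_, ?_⟩
    · rw [h, torus, MulEquiv.apply_symm_apply, dgm_val]
      simp [Matrix.mulVec, dotProduct, Fin.sum_univ_two]
    · rw [h, torus, MulEquiv.apply_symm_apply, dgm_val]
      simp [Matrix.mulVec, dotProduct, Fin.sum_univ_two]
  -- an element of `L` fixing a non-zero vector of the line fixes the line, and lies in `A`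
  have hfixline : ∀ (l : ↥(L i₀)) (v : V) (hv : v ∈ ng V (z i₀)), e ⟨v, hv⟩ 1 = 0 → v ≠ 0 → (l : X) • v = v →
      (ρ l).1 0 0 = 1 ∧ (ρ l).1 1 0 = 0 ∧ (ρ l).1 1 1 = 1 := by
    intro l v hv h1 hv0 hl
    obtain ⟨hv', h⟩ := hact l v hv
    have h0 : e ⟨v, hv⟩ 0 ≠ 0 := fun h => hv0 (hzero v hv h h1)
    have h3 : e ⟨(l : X) • v, hv'⟩ = e ⟨v, hv⟩ := by congr 1; exact Subtype.ext hl
    rw [h3] at h
    have ha := congrFun h 0
    have hb := congrFun h 1
    simp only [Matrix.mulVec, dotProduct, Fin.sum_univ_two, h1, mul_zero, add_zero] at ha hb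
    have h00 : (ρ l).1 0 0 = 1 := (mul_eq_right₀ h0).1 ha.symm
    have h10 : (ρ l).1 1 0 = 0 := (mul_eq_zero.1 hb.symm).resolve_right h0
    have hdet := (ρ l).2
    rw [Matrix.det_fin_two, h00, h10] at hdet
    refine ⟨h00, h10, ?_⟩
    simpa using hdet
  have hfixall : ∀ (l : ↥(L i₀)), (ρ l).1 0 0 = 1 → (ρ l).1 1 0 = 0 → ∀ (v : V) (hv : v ∈ ng V (z i₀)),
      e ⟨v, hv⟩ 1 = 0 → (l : X) • v = v := by
    intro l h00 h10 v hv h1
    obtain ⟨hv', h⟩ := hact l v hv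
    apply heq _ _ hv' hv
    · rw [h]; simp [Matrix.mulVec, dotProduct, Fin.sum_univ_two, h1, h00]
    · rw [h]; simp [Matrix.mulVec, dotProduct, Fin.sum_univ_two, h1, h10]
  have hinA : ∀ l : ↥(L i₀), (ρ l).1 0 0 = 1 → (ρ l).1 1 0 = 0 → (ρ l).1 1 1 = 1 → (l : X) ∈ A i₀ := by
    -- counting
    let C : Set ↥(L i₀) := {l | (ρ l).1 0 0 = 1 ∧ (ρ l).1 1 0 = 0 ∧ (ρ l).1 1 1 = 1}
    have hAC : ∀ a : X, ∀ ha : a ∈ A i₀, (⟨a, o.AL i₀ ha⟩ : ↥(L i₀)) ∈ C := by
      intro a ha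
      -- a vector on the line
      obtain ⟨⟨v, hv⟩, hev⟩ := e.surjective ![1, 0]
      have h1 : e ⟨v, hv⟩ 1 = 0 := by rw [hev]; rfl
      have hv0 : v ≠ 0 := by
        rintro rfl
        have : e ⟨0, hv⟩ = 0 := map_zero e
        rw [hev] at this
        exact one_ne_zero (congrFun this 0)
      exact hfixline ⟨a, o.AL i₀ ha⟩ v hv h1 hv0 ((hfx ⟨v, hv⟩).2 h1 a ha)
    let f : ↥(A i₀) → C := fun a => ⟨⟨a, o.AL i₀ a.2⟩, hAC a a.2⟩
    have hf1 : Function.Injective f := by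
      intro a b hab
      exact Subtype.ext (congrArg (fun c : C => ((c : ↥(L i₀)) : X)) hab)
    let g : C → F := fun c => (ρ c.1).1 0 1
    have hg1 : Function.Injective g := by
      rintro ⟨a, ha0, ha1, ha2⟩ ⟨b, hb0, hb1, hb2⟩ hab
      apply Subtype.ext
      apply ρ.injective
      apply Subtype.ext
      ext i j
      fin_cases i <;> fin_cases j
      · exact ha0.trans hb0.symm
      · exact hab
      · exact ha1.trans hb1.symm
      · exact ha2.trans hb2.symm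
    have hCfin : Finite C := Finite.of_injective g hg1
    have hc1 : Nat.card C ≤ Nat.card (A i₀) := by
      rw [← hFc, ← Nat.card_eq_fintype_card]
      exact Nat.card_le_card_of_injective g hg1
    have hbij : Function.Bijective f := (Nat.bijective_iff_injective_and_card f).2
      ⟨hf1, le_antisymm (Nat.card_le_card_of_injective f hf1) hc1⟩
    intro l h00 h10 h11
    obtain ⟨a, ha⟩ := hbij.2 ⟨l, h00, h10, h11⟩
    have : (a : X) = (l : X) := congrArg (fun c : C => ((c : ↥(L i₀)) : X)) ha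
    rw [← this]; exact a.2
  -- membership in `A`
  have hmemA : ∀ (l : ↥(L i₀)) (v : V) (hv : v ∈ ng V (z i₀)), e ⟨v, hv⟩ 1 = 0 → v ≠ 0 → (l : X) • v = v →
      (l : X) ∈ A i₀ := by
    intro l v hv h1 hv0 hl
    obtain ⟨a, b, c⟩ := hfixline l v hv h1 hv0 hl
    exact hinA l a b c
  -- Claim A
  have hfxL : ∀ v : V, (∀ i, v ∈ fx V (L i)) → v ∈ fx V (⨆ i, L i) := by
    intro v hv
    have h3 : (⨆ i, L i) ≤ MulAction.stabilizer X v := iSup_le fun i l hl => hv i l hl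
    exact fun l hl => h3 hl
  have hclaimA : ∀ w ∈ fx V (T : Subgroup X), w - z i₀ • w = 0 → w ∈ fx V (⊤ : Subgroup X) := by
    intro w hw h0
    rw [← hsup, fx_sup]
    refine ⟨hfxL w fun i => ?_, hw⟩
    obtain ⟨t, ht, -, -, htz⟩ := o.trans i₀ i
    have hzw : z i₀ • w = w := (sub_eq_zero.1 h0).symm
    have h1 : z i • w = w := by
      rw [← htz, mul_smul, mul_smul, hw t⁻¹ (T.inv_mem ht), hzw, hw t ht]
    have h3 := (o.isZ i).neg w
    rw [h1] at h3
    exact half_mem h2 hp2 h3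
  have hclaimY : ∀ w ∈ fx V (T : Subgroup X), w - z i₀ • w ∈ Y₀ := by
    intro w hw
    constructor
    · rw [mem_ng, smul_sub, (o.isZ i₀).sq_smul, neg_sub]
    · intro t ht
      have h1 : t * z i₀ = z i₀ * t := by
        have := ht.2.2.2
        rwa [mul_inv_eq_iff_eq_mul] at this
      rw [smul_sub, ← mul_smul, h1, mul_smul, hw t ht.1]
  -- extensionality
  have hext : ∀ g h : X, (∀ v : V, (∀ i, v ∈ fx V (L i)) → g • v = h • v) →
      (∀ i, ∀ v ∈ ng V (z i), g • v = h • v) → g = h := by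
    intro g h hg1 hg2
    let E : AddSubgroup V :=
      { carrier := {v | g • v = h • v}
        zero_mem' := by simp
        add_mem' := fun {a b} ha hb => by
          change g • (a + b) = h • (a + b)
          rw [smul_add, smul_add, ha, hb]
        neg_mem' := fun {a} ha => by
          change g • (-a) = h • (-a)
          rw [smul_neg, smul_neg, ha] }
    have hE : (⊤ : AddSubgroup V) ≤ E := by
      rw [← o.decomp h2 hp2]
      refine sup_le (fun v hv => hg1 v fun i l hl => hv l ((le_iSup L i) hl)) (iSup_le fun i v hv => hg2 i v hv)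
    have h1 : h⁻¹ * g = 1 := by
      apply hf
      intro v
      have h3 : g • v = h • v := hE (AddSubgroup.mem_top v)
      rw [mul_smul, h3, inv_smul_smul]
    exact (inv_mul_eq_one.1 h1).symm
  by_cases hY : ∀ y ∈ Y₀, y = 0
  · refine ⟨1, fun t ht => by simpa using ht, ⟨1, one_ne_zero, Nat.coprime_one_left p, one_pow 1⟩, ?_⟩
    intro W hWT _ hW
    exfalso
    apply hW
    intro w hw
    exact hclaimA w (hWT hw) (hY _ (hclaimY w (hWT hw)))
  push Not at hY
  obtain ⟨y₀, hy₀, hy₀0⟩ := hY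
  -- `L i₀` is normalised by `S₀`
  have hSL : ∀ t ∈ S₀, ∀ l ∈ L i₀, t * l * t⁻¹ ∈ L i₀ := by
    intro t ht l hl
    have := mem_cj_of (g := t) hl
    rwa [ht.2.2.1] at this
  have hStab : ∀ (l : ↥(L i₀)), (∃ y ∈ Y₀, y ≠ 0 ∧ (l : X) • y ∈ Y₀) → ∀ t ∈ S₀, (l : X)⁻¹ * (t * l * t⁻¹) ∈ A i₀ := by
    rintro l ⟨y, hy, hy0, hly⟩ t ht
    have hm : (l : X)⁻¹ * (t * l * t⁻¹) ∈ L i₀ := mul_mem (inv_mem l.2) (hSL t ht l l.2)
    refine hmemA ⟨_, hm⟩ y hy.1 (hcoord y hy) hy0 ?_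
    change ((l : X)⁻¹ * (t * l * t⁻¹)) • y = y
    rw [mul_smul, mul_smul, mul_smul, hy.2 t⁻¹ (hS₀inv t ht), hly.2 t ht, inv_smul_smul]
  have hStab2 : ∀ (l : ↥(L i₀)), (∃ y ∈ Y₀, y ≠ 0 ∧ (l : X) • y ∈ Y₀) → ∀ y ∈ Y₀, (l : X) • y ∈ Y₀ := by
    intro l hl y hy
    refine ⟨hnat.inv l l.2 y hy.1, fun t ht => ?_⟩
    have h1 := hStab l hl t ht
    have h3 := hYA y hy _ h1
    rw [mul_smul, inv_smul_eq_iff, mul_smul, mul_smul, hy.2 t⁻¹ (hS₀inv t ht)] at h3
    exact h3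
  -- the group `K₀`
  let K₀ : Subgroup Fˣ :=
    { carrier := {l | ∀ y ∈ Y₀, (torus ρ l : X) • y ∈ Y₀}
      one_mem' := by
        intro y hy
        rw [torus_one, Subgroup.coe_one, one_smul]; exact hy
      mul_mem' := by
        intro a b ha hb y hy
        rw [torus_mul, Subgroup.coe_mul, mul_smul]; exact ha _ (hb _ hy)
      inv_mem' := by
        intro a ha y hy
        let g : Y₀ → Y₀ := fun y => ⟨(torus ρ a : X) • (y : V), ha y y.2⟩
        have hg : Function.Injective g := by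
          intro u v huv
          exact Subtype.ext (smul_left_cancel _ (congrArg Subtype.val huv))
        obtain ⟨⟨y', hy'⟩, hyy⟩ := Finite.surjective_of_injective hg ⟨y, hy⟩
        have h1 : (torus ρ a : X) • y' = y := congrArg Subtype.val hyy
        have h3 : (torus ρ a⁻¹ : X) = (torus ρ a : X)⁻¹ := by
          rw [← Subgroup.coe_inv]
          congr 1
          rw [eq_inv_iff_mul_eq_one, ← torus_mul, inv_mul_cancel, torus_one]
        rw [h3, ← h1, inv_smul_smul]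
        exact hy' }
  have htrans : ∀ y ∈ Y₀, y ≠ 0 → ∀ y' ∈ Y₀, y' ≠ 0 → ∃ l ∈ K₀, (torus ρ l : X) • y = y' := by
    intro y hy hy0 y' hy' hy'0
    have h1 : e ⟨y, hy.1⟩ 0 ≠ 0 := fun h => hy0 (hzero y hy.1 h (hcoord y hy))
    have h1' : e ⟨y', hy'.1⟩ 0 ≠ 0 := fun h => hy'0 (hzero y' hy'.1 h (hcoord y' hy'))
    let l : Fˣ := Units.mk0 (e ⟨y', hy'.1⟩ 0 / e ⟨y, hy.1⟩ 0) (div_ne_zero h1' h1)
    obtain ⟨hl, hl0, hl1⟩ := htor l y hy.1
    have hly : (torus ρ l : X) • y = y' := by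
      apply heq _ _ hl hy'.1
      · rw [hl0]
        change e ⟨y', hy'.1⟩ 0 / e ⟨y, hy.1⟩ 0 * e ⟨y, hy.1⟩ 0 = _
        rw [div_mul_cancel₀ _ h1]
      · rw [hl1, hcoord y hy, hcoord y' hy', mul_zero]
    exact ⟨l, hStab2 (torus ρ l) ⟨y, hy, hy0, by rw [hly]; exact hy'⟩, hly⟩
  have hcyc : IsCyclic K₀ := inferInstance
  obtain ⟨⟨l₀, hl₀⟩, hgen⟩ := hcyc
  have hgen' : ∀ l ∈ K₀, ∃ m : ℕ, l₀ ^ m = l := by
    intro l hl
    have h1 : l ∈ Subgroup.zpowers l₀ := by
      obtain ⟨k, hk⟩ := Subgroup.mem_zpowers_iff.1 (hgen ⟨l, hl⟩)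
      exact Subgroup.mem_zpowers_iff.2 ⟨k, congrArg Subtype.val hk⟩
    obtain ⟨m, hm⟩ := mem_powers_iff_mem_zpowers.2 h1
    exact ⟨m, hm⟩
  set k : ↥(L i₀) := torus ρ l₀ with hk
  have hkY : ∀ y ∈ Y₀, (k : X) • y ∈ Y₀ := hl₀
  have hkS : ∀ t ∈ S₀, (k : X)⁻¹ * (t * k * t⁻¹) ∈ A i₀ := hStab k ⟨y₀, hy₀, hy₀0, hkY y₀ hy₀⟩
  -- the conjugates
  choose τ hτT hτ using fun i => o.trans i₀ i
  have hτC : ∀ i, Cj A L z (τ i) i₀ i := hτ
  obtain ⟨ki, hki⟩ : ∃ ki : Fin r → X, ∀ i, ki i = τ i * k * (τ i)⁻¹ := ⟨_, fun _ => rfl⟩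
  have hkiL : ∀ i, ki i ∈ L i := by
    intro i
    have := mem_cj_of (g := τ i) k.2
    rwa [(hτC i).2.1, ← hki] at this
  set x : X := pr ki (List.finRange r) with hx
  have hx0 : ∀ v : V, (∀ i, v ∈ fx V (L i)) → x • v = v := fun v hv => pr_smul_fix (fun i => hv i _ (hkiL i)) _
  have hLng : ∀ i, ∀ l ∈ L i, ∀ v ∈ ng V (z i), l • v ∈ ng V (z i) := by
    intro i l hl v hv
    refine smul_ng ?_ hv
    rw [← o.zc i l hl, mul_inv_cancel_right]
  have hxi : ∀ i, ∀ v ∈ ng V (z i), x • v = ki i • v := by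
    intro i v hv
    rw [hx, pr_smul (i := i) (W := ng V (z i)) (fun w hw => hLng i _ (hkiL i) w hw)
      (fun j hj w hw => o.ngfx i j (Ne.symm hj) hw _ (hkiL j)) hv _ (List.nodup_finRange r), if_pos (List.mem_finRange i)]
  -- `x` normalises `T`
  have hxT : ∀ t ∈ T, x⁻¹ * t * x ∈ T := by
    intro t ht
    have h1 : ∀ j, ∃ i, ∃ a ∈ A j, Cj A L z t i j ∧ t * ki i * t⁻¹ = ki j * a := by
      intro j
      obtain ⟨i, hi⟩ := o.cjT t⁻¹ (T.inv_mem ht) j
      have hi' : Cj A L z t i j := by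
        have := Cj.inv (A := A) (L := L) (z := z) (t := t⁻¹) (i := j) (j := i) hi
        rwa [inv_inv] at this
      have hs : (τ j)⁻¹ * t * τ i ∈ S₀ := by
        refine ⟨T.mul_mem (T.mul_mem (T.inv_mem (hτT j)) ht) (hτT i), ?_⟩
        have h4 : Cj A L z (t * τ i) i₀ j := (hτC i).mul hi'
        have h5 : Cj A L z ((τ j)⁻¹ * (t * τ i)) i₀ i₀ := h4.mul (hτC j).inv
        rwa [← mul_assoc] at h5
      have ha := hkS _ hs
      refine ⟨i, τ j * ((k : X)⁻¹ * (((τ j)⁻¹ * t * τ i) * k * ((τ j)⁻¹ * t * τ i)⁻¹)) * (τ j)⁻¹, ?_, hi', ?_⟩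
      · have := mem_cj_of (g := τ j) ha
        rwa [(hτC j).1] at this
      · rw [hki, hki]
        group
    choose ι a haA hιC hιa using h1
    set b : X := pr a (List.finRange r) with hb
    have hbT : b ∈ (T : Subgroup X) := pr_mem (fun i => o.le i (haA i)) _
    have hb0 : ∀ v : V, (∀ i, v ∈ fx V (L i)) → b • v = v := fun v hv =>
      pr_smul_fix (fun i => hv i _ (o.AL i (haA i))) _
    have hbi : ∀ i, ∀ v ∈ ng V (z i), b • v = a i • v := by
      intro i v hv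
      rw [hb, pr_smul (i := i) (W := ng V (z i)) (fun w hw => hLng i _ (o.AL i (haA i)) w hw)
        (fun j hj w hw => o.ngfx i j (Ne.symm hj) hw _ (o.AL j (haA j))) hv _ (List.nodup_finRange r),
        if_pos (List.mem_finRange i)]
    have hmain : t * x * t⁻¹ = x * b := by
      apply hext
      · intro v hv
        have hv' : ∀ i, t⁻¹ • v ∈ fx V (L i) := by
          intro i l hl
          obtain ⟨j, -, hj, -⟩ := o.cjT t ht i
          have h5 : t * l * t⁻¹ ∈ L j := by rw [← hj]; exact mem_cj_of hl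
          have h6 := hv j _ h5
          rw [mul_smul, mul_smul] at h6
          exact (eq_inv_smul_iff).2 h6
        rw [mul_smul, mul_smul, hx0 _ hv', smul_inv_smul, mul_smul, hb0 v hv, hx0 v hv]
      · intro j v hv
        have hv' : t⁻¹ • v ∈ ng V (z (ι j)) := smul_ng (hιC j).inv.2.2 hv
        rw [mul_smul, mul_smul, hxi _ _ hv', mul_smul, hbi j v hv, hxi j _ (hLng j _ (o.AL j (haA j)) v hv),
          ← mul_smul, ← mul_smul, hιa j, mul_smul]
    have h7 : x⁻¹ * t * x = b * t := by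
      have : x⁻¹ * (t * x * t⁻¹) * t = x⁻¹ * (x * b) * t := by rw [hmain]
      calc x⁻¹ * t * x = x⁻¹ * (t * x * t⁻¹) * t := by group
        _ = b * t := by rw [this]; group
    rw [h7]
    exact T.mul_mem hbT ht
  -- finite order
  have hcardA : ∃ m, m ≠ 0 ∧ Fintype.card F = p ^ m := by
    have h1 : IsPGroup p (A i₀) := T.2.to_le (o.le i₀)
    obtain ⟨m, hm⟩ := IsPGroup.iff_card.1 h1
    refine ⟨m, ?_, by rw [hFc, hm]⟩
    rintro rfl
    rw [pow_zero, ← hFc] at hm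
    exact (Fintype.one_lt_card (α := F)).ne' hm
  obtain ⟨m, hm0, hm⟩ := hcardA
  have hunits : Nat.card Fˣ = Fintype.card F - 1 := by rw [Nat.card_units, Nat.card_eq_fintype_card]
  have hFone : 1 < Fintype.card F := Fintype.one_lt_card
  set n : ℕ := Fintype.card F - 1 with hn
  have hn0 : n ≠ 0 := by omega
  have hcop : n.Coprime p := by
    rw [Nat.coprime_comm, hp.out.coprime_iff_not_dvd]
    intro hd
    have h1 : p ∣ Fintype.card F := by rw [hm]; exact dvd_pow_self p hm0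
    have h3 : p ∣ 1 := by
      have : 1 = Fintype.card F - n := by omega
      rw [this]; exact Nat.dvd_sub h1 hd
    exact hp.out.one_lt.ne' (Nat.dvd_one.1 h3)
  have hkn : (k : X) ^ n = 1 := by
    have h1 : l₀ ^ n = 1 := by rw [← hunits]; exact pow_card_eq_one'
    have h3 : k ^ n = 1 := by rw [hk, ← torus_pow, h1, torus_one]
    exact congrArg Subtype.val h3
  have hxpow : ∀ (j : ℕ) (i : Fin r), ∀ v ∈ ng V (z i), x ^ j • v = ki i ^ j • v := by
    intro j i v hv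
    induction j with
    | zero => simp
    | succ j ih =>
      have h1 : ∀ j : ℕ, ki i ^ j • v ∈ ng V (z i) := fun j => hLng i _ (pow_mem (hkiL i) j) v hv
      rw [pow_succ', mul_smul, ih, hxi i _ (h1 j), ← mul_smul, ← pow_succ']
  have hxn : x ^ n = 1 := by
    apply hext
    · intro v hv
      rw [one_smul]
      have : ∀ j : ℕ, x ^ j • v = v := by
        intro j
        induction j with
        | zero => simp
        | succ j ih => rw [pow_succ', mul_smul, ih, hx0 v hv]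
      exact this n
    · intro i v hv
      rw [hxpow n i v hv, hki, conj_pow, hkn]
      simp
  refine ⟨x, hxT, ⟨n, hn0, hcop, hxn⟩, ?_⟩
  -- the map `y`
  have hxfix : ∀ w ∈ fx V (T : Subgroup X), x • w ∈ fx V (T : Subgroup X) := by
    intro w hw t ht
    have h1 : t • x • w = x • (x⁻¹ * t * x) • w := by
      rw [← mul_smul, ← mul_smul]; congr 1; group
    rw [h1, hw _ (hxT t ht)]
  have hzx : z i₀ * x = x * z i₀ := by
    rw [hx]
    apply commute_pr
    intro i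
    by_cases hi : i = i₀
    · rw [hi]
      exact o.zc i₀ _ (hkiL i₀)
    · exact o.comm i₀ i (Ne.symm hi) _ (o.isZ i₀).mem _ (hkiL i)
  have hB : ∀ w ∈ fx V (T : Subgroup X), x • w - z i₀ • x • w = (k : X) • (w - z i₀ • w) := by
    intro w hw
    have hy := hclaimY w hw
    have h1 : x • w - z i₀ • x • w = x • (w - z i₀ • w) := by
      rw [← mul_smul, hzx, mul_smul, smul_sub]
    have hτS : τ i₀ ∈ S₀ := ⟨hτT i₀, hτC i₀⟩
    rw [h1, hxi i₀ _ hy.1, hki, mul_smul, mul_smul, hy.2 _ (hS₀inv _ hτS), (hkY _ hy).2 _ hτS]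
  have hxfixp : ∀ (j : ℕ), ∀ w ∈ fx V (T : Subgroup X), x ^ j • w ∈ fx V (T : Subgroup X) := by
    intro j w hw
    induction j with
    | zero => simpa using hw
    | succ j ih => rw [pow_succ', mul_smul]; exact hxfix _ ih
  have hBp : ∀ (j : ℕ), ∀ w ∈ fx V (T : Subgroup X),
      x ^ j • w - z i₀ • x ^ j • w = (k : X) ^ j • (w - z i₀ • w) := by
    intro j w hw
    induction j with
    | zero => simp
    | succ j ih =>
      rw [pow_succ', mul_smul, hB _ (hxfixp j w hw), ih, pow_succ', mul_smul]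
  have hkp : ∀ (j : ℕ), (k : X) ^ j = (torus ρ (l₀ ^ j) : X) := by
    intro j
    rw [torus_pow, hk, Subgroup.coe_pow]
  have hcopz : ∀ f : V, x • f - f ∈ fx V (⊤ : Subgroup X) → x • f - f = 0 := fun f hd =>
    eq_zero_of_fixed hcop hxn (h2 _) (hd x (Subgroup.mem_top x))
  intro W hWT hWx hW
  constructor
  · obtain ⟨w, hw, hw1⟩ : ∃ w ∈ W, w ∉ fx V (⊤ : Subgroup X) := by
      by_contra hcon
      push Not at hcon
      exact hW hcon
    refine ⟨w, hw, fun h => ?_⟩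
    have hy := hclaimY w (hWT hw)
    have hy0 : w - z i₀ • w ≠ 0 := fun h0 => hw1 (hclaimA w (hWT hw) h0)
    have h1 := hB w (hWT hw)
    rw [h] at h1
    obtain ⟨l, hl, hly⟩ := htrans _ hy hy0 _ (neg_mem hy) (neg_ne_zero.2 hy0)
    obtain ⟨j, rfl⟩ := hgen' l hl
    rw [← hkp] at hly
    have h3 : ∀ j : ℕ, (k : X) ^ j • (w - z i₀ • w) = w - z i₀ • w := by
      intro j
      induction j with
      | zero => simp
      | succ j ih => rw [pow_succ', mul_smul, ih, ← h1]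
    rw [h3] at hly
    apply hy0
    have h4 : (w - z i₀ • w) + (w - z i₀ • w) = 0 := by
      nth_rw 1 [hly]; exact neg_add_cancel _
    have h5 : (w - z i₀ • w) ∈ (⊥ : AddSubgroup V) := half_mem h2 hp2 (by rw [h4]; exact zero_mem _)
    exact (AddSubgroup.mem_bot).1 h5
  · intro w hw w' hw' hne hne'
    have hu : x • w - w ∈ fx V (T : Subgroup X) := sub_mem (hxfix w (hWT hw)) (hWT hw)
    have hu' : x • w' - w' ∈ fx V (T : Subgroup X) := sub_mem (hxfix w' (hWT hw')) (hWT hw')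
    have hyu : (x • w - w) - z i₀ • (x • w - w) ≠ 0 := fun h0 =>
      hne (sub_eq_zero.1 (hcopz w (hclaimA _ hu h0)))
    have hyu' : (x • w' - w') - z i₀ • (x • w' - w') ≠ 0 := fun h0 =>
      hne' (sub_eq_zero.1 (hcopz w' (hclaimA _ hu' h0)))
    obtain ⟨l, hl, hly⟩ := htrans _ (hclaimY _ hu) hyu _ (hclaimY _ hu') hyu'
    obtain ⟨j, rfl⟩ := hgen' l hl
    rw [← hkp, ← hBp j _ hu] at hly
    refine ⟨j, ?_⟩
    rw [← sub_eq_zero]
    have hd : x ^ j • (x • w - w) - (x • w' - w') = x • (x ^ j • w - w') - (x ^ j • w - w') := by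
      have h9 : x ^ j • x • w = x • x ^ j • w := by rw [← mul_smul, ← mul_smul, ← pow_succ, ← pow_succ']
      rw [smul_sub, h9, smul_sub]; abel
    have hdT : x ^ j • (x • w - w) - (x • w' - w') ∈ fx V (⊤ : Subgroup X) := by
      apply hclaimA _ (sub_mem (hxfixp j _ hu) hu')
      rw [smul_sub (z i₀)]
      have := sub_eq_zero.2 hly
      rw [← this]; abel
    rw [hd] at hdT ⊢
    exact hcopz _ hdT

end Cfsg.Agent.H788.NatTor
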